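import Cfsg.Agent.Lib.Char.HalfDegree.Local

/-!
# The normal closure of an element of order `p`
-/

set_option autoImplicit false
set_option linter.unusedSectionVars false

namespace CfsgLib.Char.HalfDegree

open Cfsg

universe u

variable {p : ℕ} [hp : Fact p.Prime] {G : Type u} [Group G] [Finite G] {x : G}

/-- The element, inside the normal closure. -/
def ncGen (x : G) : Subgroup.normalClosure {x} :=
  ⟨x, Subgroup.subset_normalClosure (Set.mem_singleton x)⟩

theorem closure_facts (D₀ : LocData p x) (hnn : ∀ H : Subgroup G, H.Normal → Nat.card H ≠ p) :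
    (∀ y : G, orderOf y = p → y ∈ Subgroup.normalClosure {x}) ∧ LocData p (ncGen x) ∧
      ¬ (Subgroup.zpowers (ncGen x)).Normal ∧
      (∀ S : Subgroup (Subgroup.normalClosure {x}),
        (∀ y : Subgroup.normalClosure {x}, orderOf y = p → y ∈ S) → S = ⊤) ∧
      Subgroup.normalClosure {ncGen x} = ⊤ := by
  classical
  have hx := D₀.order
  have hsq := D₀.sq
  set L : Subgroup G := Subgroup.normalClosure {x} with hLdef
  have hxL : x ∈ L := Subgroup.subset_normalClosure (Set.mem_singleton x)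
  have hzL : Subgroup.zpowers x ≤ L := Subgroup.zpowers_le.2 hxL
  have hordL : ∀ y : G, orderOf y = p → y ∈ L := fun y hy => by
    obtain ⟨g, hg⟩ := D₀.conj_zpowers hy
    have := (Subgroup.normalClosure_normal (s := ({x} : Set G))).conj_mem _ (hzL hg) g⁻¹
    rw [inv_inv] at this
    simpa [mul_assoc] using this
  set x' : L := ncGen x with hx'
  have D : LocData p x' := ⟨by rw [← Subgroup.orderOf_coe]; exact hx,
    fun h => hsq (h.trans (Subgroup.card_subgroup_dvd_card L))⟩
  have hcjord : ∀ g : G, orderOf (g * x * g⁻¹) = p := fun g => by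
    rw [← MulAut.conj_apply, MulEquiv.orderOf_eq, hx]
  have hcjpow : ∀ g : G, (g * x * g⁻¹) ^ p = 1 := fun g => by
    have := pow_orderOf_eq_one (g * x * g⁻¹)
    rwa [hcjord g] at this
  have hmemz : ∀ (S : Subgroup L) [S.Normal], x' ∈ S → ∀ y : L, orderOf y = p → y ∈ S := by
    intro S _ hxS y hy
    obtain ⟨l, hl⟩ := D.conj_zpowers hy
    have := Subgroup.Normal.conj_mem (H := S) inferInstance _ (Subgroup.zpowers_le.2 hxS hl) l⁻¹
    rw [inv_inv] at this
    simpa [mul_assoc] using this
  have hP : ¬ (Subgroup.zpowers x').Normal := by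
    intro hN
    haveI := hN
    refine hnn (Subgroup.zpowers x) ⟨?_⟩ (by rw [Nat.card_zpowers, hx])
    intro z hz g
    obtain ⟨i, rfl⟩ := Subgroup.mem_zpowers_iff.1 hz
    rw [← conj_zpow]
    refine Subgroup.zpow_mem _ ?_ i
    have h1 := hmemz (Subgroup.zpowers x') (Subgroup.mem_zpowers x') ⟨g * x * g⁻¹, hordL _ (hcjord g)⟩
      (by rw [← Subgroup.orderOf_coe]; exact hcjord g)
    obtain ⟨j, hj⟩ := Subgroup.mem_zpowers_iff.1 h1
    exact Subgroup.mem_zpowers_iff.2 ⟨j, by simpa [hx', ncGen] using congrArg Subtype.val hj⟩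
  have hclos : ∀ (S : Subgroup L), (∀ y : L, orderOf y = p → y ∈ S) → S = ⊤ := by
    intro S hS
    have hle : L ≤ S.map L.subtype := by
      show Subgroup.normalClosure {x} ≤ _
      refine (Subgroup.closure_le _).2 fun z hz => ?_
      obtain ⟨y, hy, hconj⟩ := Group.mem_conjugatesOfSet_iff.1 hz
      rw [Set.mem_singleton_iff] at hy
      subst hy
      obtain ⟨g, rfl⟩ := isConj_iff.1 hconj
      exact ⟨⟨g * y * g⁻¹, hordL _ (hcjord g)⟩, hS _ (by rw [← Subgroup.orderOf_coe]; exact hcjord g), rfl⟩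
    rw [eq_top_iff]
    rintro ⟨y, hy⟩ -
    obtain ⟨y', hy', e'⟩ := hle hy
    exact (Subtype.ext e' : y' = ⟨y, hy⟩) ▸ hy'
  have hgen : Subgroup.normalClosure {x'} = ⊤ :=
    hclos _ (hmemz _ (Subgroup.subset_normalClosure (Set.mem_singleton x')))
  exact ⟨hordL, D, hP, hclos, hgen⟩

/-- A faithful character of degree below `p - 1` makes the normal closure perfect. -/
theorem closure_perfect (D₀ : LocData p x) (hnn : ∀ H : Subgroup G, H.Normal → Nat.card H ≠ p)
    {χ : G → ℂ} (hχ : IsCharacter G χ) (hfaith : ∀ g : G, χ g = χ 1 → g = 1) {d : ℕ}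
    (hd : χ 1 = d) (hdp : d + 1 < p) :
    ncGen x ∈ commutator (Subgroup.normalClosure {x}) ∧
      commutator (Subgroup.normalClosure {x}) = ⊤ := by
  obtain ⟨-, D, hP, -, hgen⟩ := closure_facts D₀ hnn
  have hcomm := D.mem_commutator hgen hP (CfsgLib.Char.isCharacter_comp hχ (Subgroup.normalClosure {x}).subtype)
    (fun g hg => Subtype.ext (hfaith g (by simpa using hg))) (e := d) (by simpa using hd) hdp
  exact ⟨hcomm, eq_top_iff.2 (hgen ▸ Subgroup.normalClosure_le_normal (Set.singleton_subset_iff.2 hcomm))⟩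

end CfsgLib.Char.HalfDegree
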