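import Cfsg.Agent.Lib.Char.Basic

/-!
# Eigenvalues of an element of order `p` and its automiser; irreducibility
-/

set_option autoImplicit false
set_option linter.unusedSectionVars false

namespace CfsgLib.Char.HalfDegree

open Module

variable {p : ℕ} [Fact p.Prime] {V : Type*} [AddCommGroup V] [Module ℂ V] [FiniteDimensional ℂ V]

/-- An element conjugate to `|R|` different powers of itself has at least `|R|` eigenvalues. -/
theorem card_le_finrank {T : V →ₗ[ℂ] V} (hT : T ^ p = 1) (hne : T ≠ 1) (R : Finset (ZMod p)ˣ)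
    (hR : ∀ r ∈ R, ∃ S : V ≃ₗ[ℂ] V, ∀ v, S (T v) = (T ^ (r : ZMod p).val) (S v)) :
    R.card ≤ finrank ℂ V := by
  classical
  have hp : p.Prime := Fact.out
  obtain ⟨b, μ, hμ, hb⟩ := CfsgLib.Char.exists_eigenbasis_of_pow_eq_one T hp.ne_zero hT
  obtain ⟨i₀, hi₀⟩ : ∃ i, μ i ≠ 1 := by
    by_contra hall
    push Not at hall
    exact hne (b.ext fun i => by rw [hb, hall, one_smul]; rfl)
  have key : ∀ r ∈ R, ∃ j, μ j ^ (r : ZMod p).val = μ i₀ := by
    intro r hr
    obtain ⟨S, hS⟩ := hR r hr
    have hpow : ∀ (n : ℕ) j, (T ^ n) (b j) = μ j ^ n • b j := fun n j => by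
      induction n with
      | zero => simp
      | succ n ih => rw [pow_succ', Module.End.mul_apply, ih, map_smul, hb, smul_smul, pow_succ]
    set w := S (b i₀) with hw
    have hev : (T ^ (r : ZMod p).val) w = μ i₀ • w := by rw [hw, ← hS, hb, map_smul]
    obtain ⟨j, hj⟩ : ∃ j, b.repr w j ≠ 0 := by
      by_contra hall
      push Not at hall
      have h0 : b.repr w = 0 := Finsupp.ext hall
      exact b.ne_zero i₀ (S.map_eq_zero_iff.1 (b.repr.map_eq_zero_iff.1 h0))
    refine ⟨j, ?_⟩
    have h := congrArg (fun v => b.repr v j) hev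
    conv_lhs at h => rw [← b.sum_repr w]
    simp only [map_sum, map_smul, hpow, Basis.repr_self, Finsupp.smul_single, smul_eq_mul, mul_one,
      Finsupp.coe_finsetSum, Finset.sum_apply, Finsupp.single_apply, Finset.sum_ite_eq', Finset.mem_univ,
      if_true, Finsupp.coe_smul, Pi.smul_apply] at h
    exact mul_left_cancel₀ hj (by rw [h]; ring)
  haveI : Nonempty (Fin (finrank ℂ V)) := ⟨i₀⟩
  choose! f hf using key
  have hinj : Set.InjOn f R := by
    intro r hr s hs hrs
    have h1 := hf r hr
    rw [hrs, ← hf s hs] at h1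
    have hμne : μ (f s) ≠ 1 := fun e => hi₀ (by rw [← hf s hs, e, one_pow])
    have hord : orderOf (μ (f s)) = p := orderOf_eq_prime (hμ _) hμne
    have hne0 : μ (f s) ≠ 0 := fun e => by
      have := hμ (f s)
      rw [e, zero_pow hp.ne_zero] at this
      exact zero_ne_one this
    have h2 : (r : ZMod p).val % orderOf (μ (f s)) = (s : ZMod p).val % orderOf (μ (f s)) := by
      have hu := congrArg (fun z : ℂ => z) h1
      have h3 : (Units.mk0 _ hne0) ^ (r : ZMod p).val = (Units.mk0 _ hne0) ^ (s : ZMod p).val :=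
        Units.ext (by simpa using h1)
      rw [pow_eq_pow_iff_modEq, ← orderOf_units, Units.val_mk0] at h3
      exact h3
    rw [hord, Nat.mod_eq_of_lt (ZMod.val_lt _), Nat.mod_eq_of_lt (ZMod.val_lt _)] at h2
    exact Units.ext (ZMod.val_injective p h2)
  refine le_trans (Finset.card_le_card_of_injOn f (fun r _ => Finset.mem_coe.2 (Finset.mem_univ (f r))) hinj) ?_
  rw [Finset.card_univ, Fintype.card_fin]

/-- Over the complex numbers a unipotent element of finite order is trivial. -/
theorem eq_one_of_unipotent {T : V →ₗ[ℂ] V} {n : ℕ} (hn : n ≠ 0) (hT : T ^ n = 1)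
    (h : ∀ v, T (T v - v) = T v - v) : T = 1 := by
  have hp : ∀ (m : ℕ) v, (T ^ m) v = v + (m : ℂ) • (T v - v) := fun m => by
    induction m with
    | zero => intro v; simp
    | succ m ih =>
      intro v
      rw [pow_succ', Module.End.mul_apply, ih v, map_add, map_smul, h, Nat.cast_succ, add_smul, one_smul]
      abel
  refine LinearMap.ext fun v => ?_
  have h1 := hp n v
  rw [hT, Module.End.one_apply, left_eq_add, smul_eq_zero] at h1
  exact sub_eq_zero.1 (h1.resolve_left (Nat.cast_ne_zero.2 hn))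

/-- A representation in which every nontrivial section has large dimension is irreducible. -/
theorem no_invariant {G : Type*} [Group G] (σ : G →* Module.End ℂ V) {x : G} (hx : σ x ≠ 1)
    {n : ℕ} (hn : n ≠ 0) (hxn : x ^ n = 1) {e : ℕ} (he : finrank ℂ V = e) (R : Finset (ZMod p)ˣ)
    (hcard : e ≤ R.card) (hxp : x ^ p = 1)
    (hR : ∀ r ∈ R, ∃ g : G, g * x * g⁻¹ = x ^ (r : ZMod p).val) :
    ∀ U : Submodule ℂ V, (∀ g, ∀ v ∈ U, σ g v ∈ U) → U = ⊥ ∨ U = ⊤ := by
  intro U hU
  by_contra hne
  push Not at hne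
  have hlt : finrank ℂ U < e := he ▸ Submodule.finrank_lt hne.2
  have hlt' : finrank ℂ (V ⧸ U) < e := by
    have := Submodule.finrank_quotient_add_finrank U
    have h0 : 0 < finrank ℂ U := Nat.pos_of_ne_zero fun h => hne.1 (Submodule.finrank_eq_zero.1 h)
    omega
  have inv : ∀ {W : Type _} [AddCommGroup W] [Module ℂ W] [FiniteDimensional ℂ W]
      (τ : G →* Module.End ℂ W), finrank ℂ W < e → τ x = 1 := by
    intro W _ _ _ τ hW
    by_contra hτ
    have := card_le_finrank (p := p) (T := τ x) (by rw [← map_pow, hxp, map_one]) hτ R fun r hr => by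
      obtain ⟨g, hg⟩ := hR r hr
      refine ⟨LinearEquiv.ofLinearMap (τ g) (τ g⁻¹) (by rw [← Module.End.mul_eq_comp, ← map_mul, mul_inv_cancel, map_one]; rfl)
        (by rw [← Module.End.mul_eq_comp, ← map_mul, inv_mul_cancel, map_one]; rfl), fun v => ?_⟩
      show τ g (τ x v) = (τ x ^ (r : ZMod p).val) (τ g v)
      rw [← map_pow, ← hg, ← Module.End.mul_apply, ← map_mul, ← Module.End.mul_apply, ← map_mul, inv_mul_cancel_right]
    omega
  let τ₁ : G →* Module.End ℂ U :=
    { toFun := fun g => (σ g).restrict (hU g)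
      map_one' := LinearMap.ext fun v => Subtype.ext (by simp)
      map_mul' := fun a b => LinearMap.ext fun v => Subtype.ext (by simp) }
  let τ₂ : G →* Module.End ℂ (V ⧸ U) :=
    { toFun := fun g => U.mapQ U (σ g) (hU g)
      map_one' := Submodule.linearMap_qext _ (LinearMap.ext fun v => by simp)
      map_mul' := fun a b => Submodule.linearMap_qext _ (LinearMap.ext fun v => by simp) }
  have h1 := inv τ₁ hlt
  have h2 := inv τ₂ hlt'
  refine hx (eq_one_of_unipotent hn (by rw [← map_pow, hxn, map_one]) fun v => ?_)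
  have hmem : σ x v - v ∈ U := by
    rw [← Submodule.Quotient.eq]
    exact LinearMap.congr_fun h2 (Submodule.Quotient.mk v)
  exact congrArg Subtype.val (LinearMap.congr_fun h1 ⟨_, hmem⟩)

end CfsgLib.Char.HalfDegree
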