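import Mathlib

/-!
# The translation matrix and its `sl(2)`

`tmat a` is the matrix of `f(X) ↦ f(X + a)` on polynomials of degree at most `c`; `dmat`, `hmat`,
`ymat` span the corresponding copy of `sl(2)`.
-/

set_option autoImplicit false
set_option linter.unusedSectionVars false

namespace CfsgLib.Char.HalfDegree

open Matrix Finset

variable {k : Type*} [Field k] {c : ℕ}

/-- Entries of the translation matrix. -/
def tc (a : k) (j i : ℕ) : k := (i.choose j : k) * a ^ (i - j)

/-- Translation by `a`. -/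
def tmat (a : k) : Matrix (Fin (c + 1)) (Fin (c + 1)) k := Matrix.of fun j i => tc a j i

/-- Differentiation. -/
def dmat : Matrix (Fin (c + 1)) (Fin (c + 1)) k :=
  Matrix.of fun j i => if (i : ℕ) = j + 1 then ((i : ℕ) : k) else 0

/-- The weight matrix. -/
def hmat : Matrix (Fin (c + 1)) (Fin (c + 1)) k :=
  Matrix.diagonal fun i => 2 * ((i : ℕ) : k) - c

/-- The raising matrix. -/
def ymat : Matrix (Fin (c + 1)) (Fin (c + 1)) k :=
  Matrix.of fun j i => if (i : ℕ) + 1 = j then ((i : ℕ) : k) - c else 0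

/-- The scaling matrix. -/
def mmat (r : k) : Matrix (Fin (c + 1)) (Fin (c + 1)) k := Matrix.diagonal fun i => r⁻¹ ^ (i : ℕ)

theorem sum_ite_val (f : ℕ → k) (m : ℕ) :
    ∑ l : Fin (c + 1), (if (l : ℕ) = m then f l else 0) = if m < c + 1 then f m else 0 := by
  rcases lt_or_ge m (c + 1) with h | h
  · rw [if_pos h, Finset.sum_eq_single ⟨m, h⟩]
    · simp
    · intro b _ hb
      rw [if_neg fun e => hb (Fin.ext e)]
    · simp
  · rw [if_neg (by omega)]
    exact Finset.sum_eq_zero fun l _ => if_neg (by omega)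

theorem choose_succ_mul (i j : ℕ) :
    ((i.choose (j + 1) : k)) * (j + 1) = (i.choose j : k) * ((i : k) - j) := by
  rcases lt_or_ge i j with h | h
  · simp [Nat.choose_eq_zero_of_lt h, Nat.choose_eq_zero_of_lt (by omega : i < j + 1)]
  · have := congrArg (Nat.cast (R := k)) (Nat.choose_succ_right_eq i j)
    push_cast [Nat.cast_sub h] at this
    exact this

theorem succ_choose_mul (i j : ℕ) :
    ((i + 1 : k)) * (i.choose j : k) = ((i + 1).choose (j + 1) : k) * (j + 1) := by
  have := congrArg (Nat.cast (R := k)) (Nat.add_one_mul_choose_eq i j)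
  push_cast at this
  exact this

theorem tc_one (j i : ℕ) : tc (1 : k) j i = (i.choose j : k) := by simp [tc]

theorem dmat_mul_apply (a : k) (j i : Fin (c + 1)) :
    (dmat * tmat a : Matrix (Fin (c + 1)) (Fin (c + 1)) k) j i = ((j : ℕ) + 1 : k) * tc a (j + 1) i := by
  rw [Matrix.mul_apply]
  simp only [dmat, tmat, of_apply, ite_mul, zero_mul]
  rw [sum_ite_val fun l => (l : k) * tc a l i]
  split
  · push_cast; ring
  · rw [tc, Nat.choose_eq_zero_of_lt (by omega)]; simp

theorem ymat_mul_apply (a : k) (j i : Fin (c + 1)) :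
    (ymat * tmat a : Matrix (Fin (c + 1)) (Fin (c + 1)) k) j i = if (j : ℕ) = 0 then 0 else (((j - 1 : ℕ) : k) - c) * tc a (j - 1) i := by
  rw [Matrix.mul_apply]
  simp only [ymat, tmat, of_apply, ite_mul, zero_mul]
  split
  · exact Finset.sum_eq_zero fun l _ => if_neg (by omega)
  · simp only [show ∀ l : Fin (c + 1), (l : ℕ) + 1 = j ↔ (l : ℕ) = j - 1 from fun l => by omega]
    rw [sum_ite_val fun l => ((l : k) - c) * tc a l i, if_pos (by omega)]

theorem hmat_mul_apply (a : k) (j i : Fin (c + 1)) :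
    (hmat * tmat a : Matrix (Fin (c + 1)) (Fin (c + 1)) k) j i = (2 * ((j : ℕ) : k) - c) * tc a j i := by
  rw [hmat, Matrix.diagonal_mul]; rfl

theorem mul_dmat_apply (a : k) (j i : Fin (c + 1)) :
    (tmat a * dmat : Matrix (Fin (c + 1)) (Fin (c + 1)) k) j i = tc a j ((i : ℕ) - 1) * (i : ℕ) := by
  rw [Matrix.mul_apply]
  simp only [dmat, tmat, of_apply, mul_ite, mul_zero]
  rcases Nat.eq_zero_or_pos (i : ℕ) with h | h
  · rw [h]; simp
  simp only [show ∀ l : Fin (c + 1), (i : ℕ) = (l : ℕ) + 1 ↔ (l : ℕ) = i - 1 from fun l => by omega]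
  rw [sum_ite_val fun l => tc a j l * ((i : ℕ) : k), if_pos (by omega)]

theorem mul_ymat_apply (a : k) (j i : Fin (c + 1)) :
    (tmat a * ymat : Matrix (Fin (c + 1)) (Fin (c + 1)) k) j i = tc a j ((i : ℕ) + 1) * (((i : ℕ) : k) - c) := by
  rw [Matrix.mul_apply]
  simp only [ymat, tmat, of_apply, mul_ite, mul_zero]
  simp only [show ∀ l : Fin (c + 1), (i : ℕ) + 1 = l ↔ (l : ℕ) = i + 1 from fun l => by omega]
  rw [sum_ite_val fun l => tc a j l * (((i : ℕ) : k) - c)]
  split
  · rfl
  · rw [show (i : ℕ) = c by omega]; simp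

theorem tmat_one_comm_dmat :
    (tmat 1 * dmat : Matrix (Fin (c + 1)) (Fin (c + 1)) k) = dmat * tmat 1 := by
  ext j i
  rw [mul_dmat_apply, dmat_mul_apply, tc_one, tc_one]
  generalize (i : ℕ) = n
  cases n with
  | zero => simp
  | succ n =>
    have := succ_choose_mul (k := k) n j
    push_cast
    linear_combination this

theorem tmat_one_mul_hmat :
    (tmat 1 * hmat : Matrix (Fin (c + 1)) (Fin (c + 1)) k) = (hmat + 2 • dmat) * tmat 1 := by
  ext j i
  rw [add_mul, Matrix.add_apply, smul_mul_assoc, Matrix.smul_apply, hmat_mul_apply, dmat_mul_apply, hmat,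
    Matrix.mul_diagonal, tmat, of_apply, tc_one, tc_one, nsmul_eq_mul]
  have := choose_succ_mul (k := k) i j
  push_cast
  linear_combination (-2 : k) * this

theorem tmat_one_mul_ymat :
    (tmat 1 * ymat : Matrix (Fin (c + 1)) (Fin (c + 1)) k) = (ymat + hmat + dmat) * tmat 1 := by
  ext j i
  rw [add_mul, add_mul, Matrix.add_apply, Matrix.add_apply, ymat_mul_apply, hmat_mul_apply, dmat_mul_apply,
    mul_ymat_apply, tc_one, tc_one, tc_one]
  generalize (i : ℕ) = n
  generalize (j : ℕ) = m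
  rcases m with _ | m
  · have := choose_succ_mul (k := k) n 0
    simp only [tc_one, Nat.choose_zero_right, Nat.cast_zero, zero_add, if_true, Nat.cast_one] at this ⊢
    linear_combination -this
  · rw [if_neg (Nat.succ_ne_zero m), Nat.add_sub_cancel, tc_one, Nat.choose_succ_succ']
    have h1 := choose_succ_mul (k := k) n (m + 1)
    have h2 := choose_succ_mul (k := k) n m
    push_cast at h1 h2 ⊢
    linear_combination -h1 - h2

theorem tmat_mul (a b : k) : (tmat a * tmat b : Matrix (Fin (c + 1)) (Fin (c + 1)) k) = tmat (a + b) := by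
  open Polynomial in
  have hP : ∀ (a : k) (n : ℕ), n < c + 1 →
      ∑ l : Fin (c + 1), C (tc a l n) * X ^ (l : ℕ) = (X + C a) ^ n := by
    intro a n hn
    rw [add_pow, Fin.sum_univ_eq_sum_range (fun l => C (tc a l n) * X ^ l),
      ← Finset.sum_range_add_sum_Ico _ (show n + 1 ≤ c + 1 by omega), Finset.sum_eq_zero
      (s := Finset.Ico (n + 1) (c + 1)) fun l hl => by
        rw [tc, Nat.choose_eq_zero_of_lt (Finset.mem_Ico.1 hl).1]; simp, add_zero]
    refine Finset.sum_congr rfl fun l _ => ?_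
    simp only [tc, map_mul, map_pow, map_natCast]
    ring
  ext j i
  open Polynomial in
  have h1 : ∑ l : Fin (c + 1), C ((tmat a * tmat b : Matrix (Fin (c + 1)) (Fin (c + 1)) k) l i) * X ^ (l : ℕ)
      = (X + C (a + b)) ^ (i : ℕ) := by
    simp only [Matrix.mul_apply, map_sum, Finset.sum_mul, tmat, of_apply]
    rw [Finset.sum_comm]
    have : ∀ m : Fin (c + 1), ∑ l : Fin (c + 1), C (tc a l m * tc b m i) * X ^ (l : ℕ)
        = C (tc b m i) * (X + C a) ^ (m : ℕ) := fun m => by
      rw [← hP a m m.2, Finset.mul_sum]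
      exact Finset.sum_congr rfl fun l _ => by rw [map_mul]; ring
    rw [Finset.sum_congr rfl fun m _ => this m]
    have h := congrArg (aeval ((X : k[X]) + C a)) (hP b i i.2)
    simp only [map_sum, map_mul, map_pow, map_add, aeval_X, aeval_C, Polynomial.algebraMap_eq] at h
    rw [h, map_add]
    ring
  open Polynomial in
  rw [← hP (a + b) i i.2] at h1
  open Polynomial in
  have h2 := congrArg (fun f : k[X] => f.coeff j) h1
  simpa [Polynomial.coeff_X_pow, Fin.val_inj, tmat, eq_comm] using h2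

theorem tmat_zero : (tmat 0 : Matrix (Fin (c + 1)) (Fin (c + 1)) k) = 1 := by
  ext j i
  simp only [tmat, of_apply, tc, Matrix.one_apply, Fin.ext_iff]
  rcases lt_trichotomy (i : ℕ) j with h | h | h
  · rw [Nat.choose_eq_zero_of_lt h, if_neg h.ne']; simp
  · rw [h, if_pos rfl]; simp
  · rw [if_neg h.ne, zero_pow (by omega)]; simp

theorem tmat_natCast (n : ℕ) :
    (tmat (n : k) : Matrix (Fin (c + 1)) (Fin (c + 1)) k) = tmat 1 ^ n := by
  induction n with
  | zero => rw [Nat.cast_zero, tmat_zero, pow_zero]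
  | succ n ih => rw [pow_succ, ← ih, tmat_mul, Nat.cast_succ]

theorem mmat_mul_tmat {r : k} (hr : r ≠ 0) (a : k) :
    (mmat r * tmat a : Matrix (Fin (c + 1)) (Fin (c + 1)) k) = tmat (r * a) * mmat r := by
  ext j i
  rw [mmat, Matrix.diagonal_mul, Matrix.mul_diagonal]
  simp only [tmat, of_apply, tc]
  rcases lt_or_ge (i : ℕ) j with h | h
  · simp [Nat.choose_eq_zero_of_lt h]
  · obtain ⟨t, ht⟩ := Nat.exists_eq_add_of_le h
    rw [ht, Nat.add_sub_cancel_left, mul_pow, pow_add]
    field_simp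
    rw [mul_assoc _ (r ^ t), ← mul_pow, mul_one_div_cancel hr, one_pow, mul_one]

theorem mmat_mul_inv {r : k} (hr : r ≠ 0) :
    (mmat r * mmat r⁻¹ : Matrix (Fin (c + 1)) (Fin (c + 1)) k) = 1 := by
  rw [mmat, mmat, Matrix.diagonal_mul_diagonal, ← Matrix.diagonal_one]
  congr 1
  funext i
  rw [← mul_pow, inv_inv, inv_mul_cancel₀ hr, one_pow]

theorem mmat_mul_dmat {r : k} (hr : r ≠ 0) :
    (mmat r * dmat : Matrix (Fin (c + 1)) (Fin (c + 1)) k) = r • (dmat * mmat r) := by
  ext j i
  rw [mmat, Matrix.diagonal_mul, Matrix.smul_apply, Matrix.mul_diagonal]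
  simp only [dmat, of_apply]
  split_ifs with h
  · rw [h, smul_eq_mul, pow_succ]
    field_simp
  · simp

theorem mmat_mul_hmat (r : k) :
    (mmat r * hmat : Matrix (Fin (c + 1)) (Fin (c + 1)) k) = hmat * mmat r := by
  rw [mmat, hmat, Matrix.diagonal_mul_diagonal, Matrix.diagonal_mul_diagonal]
  simp only [mul_comm]

theorem mmat_mul_ymat {r : k} :
    (mmat r * ymat : Matrix (Fin (c + 1)) (Fin (c + 1)) k) = r⁻¹ • (ymat * mmat r) := by
  ext j i
  rw [mmat, Matrix.diagonal_mul, Matrix.smul_apply, Matrix.mul_diagonal]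
  simp only [ymat, of_apply]
  split_ifs with h
  · rw [← h, smul_eq_mul, pow_succ]
    ring
  · simp

theorem trace_dmat_dmat : (dmat * dmat : Matrix (Fin (c + 1)) (Fin (c + 1)) k).trace = 0 := by
  refine Finset.sum_eq_zero fun j _ => ?_
  rw [Matrix.diag_apply, Matrix.mul_apply]
  refine Finset.sum_eq_zero fun l _ => ?_
  simp only [dmat, of_apply]
  split_ifs <;> first | (exfalso; omega) | simp

theorem trace_ymat_ymat : (ymat * ymat : Matrix (Fin (c + 1)) (Fin (c + 1)) k).trace = 0 := by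
  refine Finset.sum_eq_zero fun j _ => ?_
  rw [Matrix.diag_apply, Matrix.mul_apply]
  refine Finset.sum_eq_zero fun l _ => ?_
  simp only [ymat, of_apply]
  split_ifs <;> first | (exfalso; omega) | simp

theorem trace_dmat_hmat : (dmat * hmat : Matrix (Fin (c + 1)) (Fin (c + 1)) k).trace = 0 := by
  refine Finset.sum_eq_zero fun j _ => ?_
  simp [hmat, dmat]

theorem trace_ymat_hmat : (ymat * hmat : Matrix (Fin (c + 1)) (Fin (c + 1)) k).trace = 0 := by
  refine Finset.sum_eq_zero fun j _ => ?_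
  simp [hmat, ymat]

theorem sum_sq_aux (a : k) : ∀ n : ℕ, 3 * ∑ i ∈ range n, (2 * (i : k) - a) ^ 2 =
    (n : k) * (2 * ((n : k) - 1) * (2 * n - 1) - 6 * a * ((n : k) - 1) + 3 * a ^ 2)
  | 0 => by simp
  | n + 1 => by
    rw [Finset.sum_range_succ, mul_add, sum_sq_aux a n]
    push_cast
    ring

theorem trace_hmat_hmat : (3 : k) * (hmat * hmat : Matrix (Fin (c + 1)) (Fin (c + 1)) k).trace =
    (c : k) * (c + 1) * (c + 2) := by
  rw [hmat, Matrix.diagonal_mul_diagonal, Matrix.trace_diagonal,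
    Fin.sum_univ_eq_sum_range (fun i => (2 * (i : k) - c) * (2 * (i : k) - c)),
    ← sub_eq_zero]
  simp only [← pow_two]
  rw [sum_sq_aux]
  push_cast
  ring

end CfsgLib.Char.HalfDegree
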