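import Cfsg.Agent.Lib.Char.HalfDegree.Setup
import Cfsg.Agent.Lib.Char.HalfDegree.Translation

/-!
# The model of a cyclic representation

After a change of basis `x` is the translation matrix, and conjugation by the normaliser of the
subgroup it generates preserves the span of `dmat`, `hmat` and `ymat`.
-/

set_option autoImplicit false
set_option linter.unusedSectionVars false

namespace CfsgLib.Char.HalfDegree

open Matrix Finset

variable {k : Type*} [Field k] {c p : ℕ} [Fact p.Prime] [CharP k p] {L : Type*} [Group L] [Finite L]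
  {x : L}

local notation "Mat" => Matrix (Fin (c + 1)) (Fin (c + 1)) k

/-- The span of the model `sl(2)`. -/
def w0Sp : Submodule k Mat := Submodule.span k {dmat, hmat, ymat}

theorem dmat_mem : (dmat : Mat) ∈ w0Sp := Submodule.subset_span (by simp)

theorem hmat_mem : (hmat : Mat) ∈ w0Sp := Submodule.subset_span (by simp)

theorem ymat_mem : (ymat : Mat) ∈ w0Sp := Submodule.subset_span (by simp)

/-- `X` transports the model into itself. -/
def Pres (X : Mat) : Prop := ∀ f ∈ (w0Sp : Submodule k Mat), ∃ f' ∈ (w0Sp : Submodule k Mat), X * f = f' * X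

theorem pres_mul {X Y : Mat} (hX : Pres X) (hY : Pres Y) : Pres (X * Y) := fun f hf => by
  obtain ⟨f', hf', e⟩ := hY f hf
  obtain ⟨f'', hf'', e'⟩ := hX f' hf'
  exact ⟨f'', hf'', by rw [mul_assoc, e, ← mul_assoc, e', mul_assoc]⟩

theorem pres_one : Pres (1 : Mat) := fun f hf => ⟨f, hf, by rw [one_mul, mul_one]⟩

theorem pres_smul {X : Mat} (hX : Pres X) (a : k) : Pres (a • X) := fun f hf => by
  obtain ⟨f', hf', e⟩ := hX f hf
  exact ⟨f', hf', by rw [smul_mul_assoc, e, mul_smul_comm]⟩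

theorem pres_pow {X : Mat} (hX : Pres X) : ∀ n : ℕ, Pres (X ^ n)
  | 0 => by rw [pow_zero]; exact pres_one
  | n + 1 => by rw [pow_succ]; exact pres_mul (pres_pow hX n) hX

theorem pres_of_basis {X : Mat} {d' h' y' : Mat} (md : d' ∈ w0Sp) (mh : h' ∈ w0Sp) (my : y' ∈ w0Sp)
    (ed : X * dmat = d' * X) (eh : X * hmat = h' * X) (ey : X * ymat = y' * X) : Pres X := by
  intro f hf
  induction hf using Submodule.span_induction with
  | mem f hf =>
    simp only [Set.mem_insert_iff, Set.mem_singleton_iff] at hf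
    rcases hf with rfl | rfl | rfl
    · exact ⟨d', md, ed⟩
    · exact ⟨h', mh, eh⟩
    · exact ⟨y', my, ey⟩
  | zero => exact ⟨0, zero_mem _, by simp⟩
  | add f g _ _ hf hg =>
    obtain ⟨f', hf', e⟩ := hf
    obtain ⟨g', hg', e'⟩ := hg
    exact ⟨f' + g', add_mem hf' hg', by rw [mul_add, e, e', add_mul]⟩
  | smul a f _ hf =>
    obtain ⟨f', hf', e⟩ := hf
    exact ⟨a • f', Submodule.smul_mem _ a hf', by rw [mul_smul_comm, e, smul_mul_assoc]⟩

theorem pres_tmat : Pres (tmat 1 : Mat) :=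
  pres_of_basis dmat_mem (add_mem hmat_mem (nsmul_mem dmat_mem 2))
    (add_mem (add_mem ymat_mem hmat_mem) dmat_mem) tmat_one_comm_dmat tmat_one_mul_hmat tmat_one_mul_ymat

theorem pres_mmat {r : k} (hr : r ≠ 0) : Pres (mmat r : Mat) :=
  pres_of_basis (Submodule.smul_mem _ r dmat_mem) hmat_mem (Submodule.smul_mem _ r⁻¹ ymat_mem)
    (by rw [mmat_mul_dmat hr, smul_mul_assoc]) (mmat_mul_hmat r) (by rw [mmat_mul_ymat, smul_mul_assoc])

theorem tmat_nilpotent (p : ℕ) [Fact p.Prime] [CharP k p] : IsNilpotent ((tmat 1 : Mat) - 1) := ⟨p, by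
  rw [sub_pow_char_of_commute (p := p) (Commute.one_right _), ← tmat_natCast, CharP.cast_eq_zero, tmat_zero,
    one_pow, sub_self]⟩

theorem tmat_single_block (hd : c + 1 ≤ p) :
    (((tmat 1 : Mat) - 1) ^ c) *ᵥ Pi.single (Fin.last c) 1 ≠ 0 := by
  have key : ∀ m ≤ c, ∀ j : Fin (c + 1),
      ((c - m < j → ((((tmat 1 : Mat) - 1) ^ m) *ᵥ Pi.single (Fin.last c) 1) j = 0) ∧
      ((j : ℕ) = c - m → ((((tmat 1 : Mat) - 1) ^ m) *ᵥ Pi.single (Fin.last c) 1) j ≠ 0)) := by
    intro m
    induction m with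
    | zero =>
      intro _ j
      rw [pow_zero, one_mulVec, Nat.sub_zero]
      refine ⟨fun h => absurd j.2 (by omega), fun h => ?_⟩
      rw [show j = Fin.last c from Fin.ext h, Pi.single_eq_same]
      exact one_ne_zero
    | succ m ih =>
      intro hm j
      specialize ih (by omega)
      rw [pow_succ', ← mulVec_mulVec]
      generalize (((tmat 1 : Mat) - 1) ^ m) *ᵥ Pi.single (Fin.last c) 1 = w at ih ⊢
      rw [mulVec, dotProduct]
      have hzero : ∀ l : Fin (c + 1), (l : ℕ) ≤ j → ((tmat 1 : Mat) - 1) j l = 0 := by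
        intro l hl
        rw [Matrix.sub_apply, tmat, of_apply, tc_one]
        rcases hl.lt_or_eq with h | h
        · rw [Nat.choose_eq_zero_of_lt h, Nat.cast_zero, Matrix.one_apply_ne (fun e => by rw [e] at h; omega),
            sub_zero]
        · rw [h, Nat.choose_self, Nat.cast_one, show l = j from Fin.ext h, Matrix.one_apply_eq, sub_self]
      constructor
      · intro hj
        refine Finset.sum_eq_zero fun l _ => ?_
        rcases le_or_gt (l : ℕ) j with h | h
        · rw [hzero l h, zero_mul]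
        · rw [(ih l).1 (by omega), mul_zero]
      · intro hj
        have hl : c - m < c + 1 := by omega
        rw [Finset.sum_eq_single ⟨c - m, hl⟩ ?_ (fun h => absurd (Finset.mem_univ _) h)]
        · refine mul_ne_zero ?_ ((ih ⟨c - m, hl⟩).2 rfl)
          rw [Matrix.sub_apply, tmat, of_apply, tc_one, Matrix.one_apply_ne (fun e => by
            have := congrArg Fin.val e; simp only at this; omega), sub_zero,
            show ((⟨c - m, hl⟩ : Fin (c + 1)) : ℕ) = (j : ℕ) + 1 by simp only; omega, Nat.choose_succ_self_right]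
          rw [Ne, CharP.cast_eq_zero_iff k p]
          exact Nat.not_dvd_of_pos_of_lt (by omega) (by omega)
        · intro l _ hne
          rcases le_or_gt (l : ℕ) j with h | h
          · rw [hzero l h, zero_mul]
          · rw [(ih l).1 (by
              rcases Nat.lt_or_ge (c - m) l with h' | h'
              · exact h'
              · exact absurd (Fin.ext (show (l : ℕ) = c - m by omega)) hne), mul_zero]
  intro h
  exact (key c le_rfl 0).2 (by simp) (congrFun h 0)

/-- The automiser homomorphism. -/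
theorem exists_theta (D : LocData p x) :
    ∃ θ : Subgroup.normalizer (Subgroup.zpowers x : Set L) →* (ZMod p)ˣ,
      ∀ n : Subgroup.normalizer (Subgroup.zpowers x : Set L), (n : L) * x * (n : L)⁻¹ = x ^ ((θ n : ZMod p)).val := by
  haveI : NeZero p := ⟨(Fact.out : p.Prime).ne_zero⟩
  set N := Subgroup.normalizer (Subgroup.zpowers x : Set L) with hN
  have hinj : ∀ a b : ZMod p, x ^ a.val = x ^ b.val → a = b := fun a b h => by
    rw [pow_eq_pow_iff_modEq, D.order, ← ZMod.natCast_eq_natCast_iff, ZMod.natCast_zmod_val,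
      ZMod.natCast_zmod_val] at h
    exact h
  have hex : ∀ n : N, ∃ a : ZMod p, (n : L) * x * (n : L)⁻¹ = x ^ a.val := fun n => by
    have h := (Subgroup.mem_normalizer_iff.1 n.2 x).1 (Subgroup.mem_zpowers x)
    rw [← mem_powers_iff_mem_zpowers, Submonoid.mem_powers_iff] at h
    obtain ⟨i, hi⟩ := h
    exact ⟨(i : ZMod p), by rw [ZMod.val_natCast, ← D.order, pow_mod_orderOf, hi]⟩
  choose f hf using hex
  let g : N →* ZMod p :=
    { toFun := f
      map_one' := hinj _ _ (by
        rw [← hf, ZMod.val_one]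
        simp)
      map_mul' := fun a b => hinj _ _ (by
        rw [← hf, ZMod.val_mul, ← pow_eq_pow_mod _ D.pow_eq_one, pow_mul, ← hf a, conj_pow, ← hf b]
        simp only [Subgroup.coe_mul, _root_.mul_inv_rev, mul_assoc]) }
  exact ⟨g.toHomUnits, hf⟩

theorem exists_model [IsAlgClosed k] (D : LocData p x) (hd : c + 2 ≤ p) (ρ : L →* Mat)
    (hblock : (ρ x - 1) ^ c ≠ 0) :
    ∃ ρ' : L →* Mat, ρ' x = tmat 1 ∧
      ∀ n ∈ Subgroup.normalizer (Subgroup.zpowers x : Set L), ∀ f ∈ (w0Sp : Submodule k Mat),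
        cj ρ' n f ∈ (w0Sp : Submodule k Mat) := by
  classical
  have hp : p.Prime := Fact.out
  haveI : NeZero p := ⟨hp.ne_zero⟩
  set N := Subgroup.normalizer (Subgroup.zpowers x : Set L) with hNdef
  obtain ⟨θ, hθ⟩ := exists_theta D
  obtain ⟨⟨u₀, hu₀⟩, hgen⟩ := IsCyclic.exists_monoid_generator (α := θ.range)
  obtain ⟨n₀, hn₀⟩ := hu₀
  set h₀ : N := n₀ ^ p with hh₀
  have hθh : θ h₀ = u₀ := by
    rw [hh₀, map_pow, hn₀]
    calc u₀ ^ p = u₀ ^ (p - 1) * u₀ := by rw [← pow_succ, Nat.sub_add_cancel hp.pos]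
      _ = u₀ := by rw [ZMod.units_pow_card_sub_one_eq_one, one_mul]
  set M := Nat.card L / p with hM
  have hpM : p * M = Nat.card L := Nat.mul_div_cancel' (D.order ▸ orderOf_dvd_natCard x)
  have hMk : (M : k) ≠ 0 := by rw [Ne, CharP.cast_eq_zero_iff k p]; exact D.not_dvd
  have hh₀M : ((h₀ : N) : L) ^ M = 1 := by
    rw [hh₀, Subgroup.coe_pow, ← pow_mul, hpM, pow_card_eq_one']
  -- an eigenvector off the kernel of the top power
  set T : Module.End k (Fin (c + 1) → k) := Matrix.toLin' (ρ (h₀ : L)) with hT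
  have hTM : T ^ M = 1 := by
    rw [hT, ← Matrix.toLin'_pow, ← map_pow, hh₀M, map_one, Matrix.toLin'_one]
    rfl
  have hss : Module.End.IsSemisimple T := by
    refine Module.End.isSemisimple_of_squarefree_aeval_eq_zero
      (Polynomial.separable_X_pow_sub_C (1 : k) hMk one_ne_zero).squarefree ?_
    simp [hTM]
  have htop : ⨆ μ : k, Module.End.eigenspace T μ = ⊤ := by
    have := Module.End.iSup_maxGenEigenspace_eq_top T
    simpa [hss.isFinitelySemisimple.maxGenEigenspace_eq_eigenspace] using this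
  obtain ⟨μ, v₀, hev, hv₀⟩ : ∃ (μ : k) (v : Fin (c + 1) → k), ρ (h₀ : L) *ᵥ v = μ • v ∧
      ((ρ x - 1) ^ c) *ᵥ v ≠ 0 := by
    by_contra hall
    push Not at hall
    refine hblock (Matrix.ext_of_mulVec_single fun i => ?_)
    have hle : ⨆ μ : k, Module.End.eigenspace T μ ≤ LinearMap.ker (Matrix.toLin' ((ρ x - 1) ^ c)) :=
      iSup_le fun μ v hv => by
        rw [Module.End.mem_eigenspace_iff, hT, toLin'_apply] at hv
        rw [LinearMap.mem_ker, toLin'_apply]
        exact hall μ v hv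
    have := hle (htop ▸ Submodule.mem_top : Pi.single i (1 : k) ∈ _)
    rw [LinearMap.mem_ker, toLin'_apply] at this
    rw [this, zero_mulVec]
  have hnil1 : (ρ x - 1) ^ (c + 1) = 0 := nilpotent_rho ρ D.pow_eq_one
  have hnil0 : ((tmat 1 : Mat) - 1) ^ (c + 1) = 0 := pow_eq_zero_of_nilpotent (tmat_nilpotent p)
  have hsb := tmat_single_block (k := k) (p := p) (c := c) (by omega)
  obtain ⟨Φ, hΦ, hΦv⟩ := exists_conj hnil1 hv₀ hnil0 hsb
  let ρ' : L →* Mat :=
    { toFun := fun g => (↑Φ⁻¹ : Mat) * ρ g * (Φ : Mat)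
      map_one' := by rw [map_one, mul_one, Units.inv_mul]
      map_mul' := fun a b => by
        rw [map_mul]
        simp only [mul_assoc]
        rw [← mul_assoc (Φ : Mat) (↑Φ⁻¹ : Mat), Units.mul_inv, one_mul] }
  have hx' : ρ' x = tmat 1 := by
    show (↑Φ⁻¹ : Mat) * ρ x * (Φ : Mat) = tmat 1
    rw [mul_sub, mul_one, sub_mul, one_mul, sub_left_inj] at hΦ
    rw [mul_assoc, ← hΦ, ← mul_assoc, Units.inv_mul, one_mul]
  refine ⟨ρ', hx', ?_⟩
  set r : k := (((θ h₀ : ZMod p)).val : k) with hr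
  have hr0 : r ≠ 0 := by
    rw [hr, Ne, CharP.cast_eq_zero_iff k p]
    intro h
    refine (θ h₀).ne_zero ((ZMod.val_eq_zero _).1 (Nat.eq_zero_of_dvd_of_lt h (ZMod.val_lt _)))
  have hcomm : ρ' (h₀ : L) * tmat 1 = tmat r * ρ' (h₀ : L) := by
    rw [hr, tmat_natCast, ← hx', ← map_pow, ← map_mul, ← map_mul, ← hθ h₀, inv_mul_cancel_right]
  have hXT : Commute (mmat r⁻¹ * ρ' (h₀ : L)) (tmat 1) := by
    show mmat r⁻¹ * ρ' (h₀ : L) * tmat 1 = tmat 1 * (mmat r⁻¹ * ρ' (h₀ : L))
    rw [mul_assoc, hcomm, ← mul_assoc, mmat_mul_tmat (inv_ne_zero hr0), inv_mul_cancel₀ hr0, mul_assoc]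
  have hev' : ρ' (h₀ : L) *ᵥ Pi.single (Fin.last c) 1 = μ • Pi.single (Fin.last c) 1 := by
    show ((↑Φ⁻¹ : Mat) * ρ (h₀ : L) * (Φ : Mat)) *ᵥ _ = _
    rw [← mulVec_mulVec, ← mulVec_mulVec, hΦv, hev, mulVec_smul, ← hΦv, mulVec_mulVec, Units.inv_mul,
      one_mulVec]
  have hX : mmat r⁻¹ * ρ' (h₀ : L) = (r ^ c * μ) • (1 : Mat) := by
    refine eq_of_commute hnil0 hsb (hXT.sub_right (Commute.one_right _))
      ((Commute.one_left _).smul_left _) ?_
    rw [← mulVec_mulVec, hev', mulVec_smul, smul_mulVec, one_mulVec, mmat, diagonal_mulVec_single, inv_inv,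
      mul_one, Fin.val_last]
    funext i
    by_cases h : i = Fin.last c
    · subst h; simp [mul_comm]
    · simp [Pi.single_eq_of_ne h]
  have hh0pres : Pres (ρ' (h₀ : L)) := by
    have e : ρ' (h₀ : L) = (r ^ c * μ) • mmat r := by
      calc ρ' (h₀ : L) = mmat r * (mmat r⁻¹ * ρ' (h₀ : L)) := by rw [← mul_assoc, mmat_mul_inv hr0, one_mul]
        _ = _ := by rw [hX, mul_smul_comm, mul_one]
    rw [e]
    exact pres_smul (pres_mmat hr0) _
  -- elements centralising x
  have hcent : ∀ g : L, g * x = x * g → Pres (ρ' g) := by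
    intro g hg
    have hc1 : Commute (ρ' g) ((tmat 1 : Mat) - 1) := by
      refine Commute.sub_right ?_ (Commute.one_right _)
      show ρ' g * tmat 1 = tmat 1 * ρ' g
      rw [← hx', ← map_mul, ← map_mul, hg]
    obtain ⟨a, q, hq, hNq⟩ := commutant_eq hnil0 hsb hc1
    have hpow : ρ' (g ^ p) = a ^ p • (1 : Mat) := by
      rw [map_pow, hq, add_pow_char_of_commute (p := p) ((Commute.one_left _).smul_left a), hNq.mul_pow,
        pow_eq_zero_of_le (show c + 1 ≤ p by omega) hnil0, zero_mul, add_zero, smul_pow, one_pow]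
    have hM0 : 0 < M := Nat.pos_of_ne_zero fun e => hMk (by rw [e, Nat.cast_zero])
    have hinv : ∀ a b : ℕ, 0 < b → a.Coprime b → ∃ u : ℕ, a * u ≡ 1 [MOD b] := fun a b hb hab => by
      haveI : NeZero b := ⟨hb.ne'⟩
      refine ⟨((a : ZMod b)⁻¹).val, ?_⟩
      rw [← ZMod.natCast_eq_natCast_iff, Nat.cast_mul, ZMod.natCast_zmod_val, ZMod.coe_mul_inv_eq_one _ hab,
        Nat.cast_one]
    have hco : p.Coprime M := (hp.coprime_iff_not_dvd).2 D.not_dvd
    obtain ⟨u, hu⟩ := hinv p M hM0 hco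
    obtain ⟨v, hv⟩ := hinv M p hp.pos hco.symm
    have hdec : g = (g ^ p) ^ u * (g ^ M) ^ v := by
      rw [← pow_mul, ← pow_mul, ← pow_add]
      conv_lhs => rw [← pow_one g]
      rw [pow_eq_pow_iff_modEq]
      refine Nat.ModEq.of_dvd (hpM ▸ orderOf_dvd_natCard g) ?_
      rw [← Nat.modEq_and_modEq_iff_modEq_mul hco]
      constructor
      · have h := Nat.ModEq.add ((Nat.modEq_zero_iff_dvd.2 (dvd_mul_right p u)) : p * u ≡ 0 [MOD p]) hv
        rw [zero_add] at h
        exact h.symm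
      · have h := Nat.ModEq.add hu ((Nat.modEq_zero_iff_dvd.2 (dvd_mul_right M v)) : M * v ≡ 0 [MOD M])
        rw [add_zero] at h
        exact h.symm
    have hy : g ^ M ∈ Subgroup.zpowers x := by
      refine D.mem_zpowers ?_ (by rw [← pow_mul, mul_comm, hpM, pow_card_eq_one'])
      refine pow_mem ?_ M
      refine Subgroup.centralizer_le_normalizer _ (Subgroup.mem_centralizer_iff.2 ?_)
      intro z hz
      obtain ⟨i, rfl⟩ := Subgroup.mem_zpowers_iff.1 hz
      exact ((show Commute g x from hg).zpow_right i).eq.symm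
    rw [← mem_powers_iff_mem_zpowers, Submonoid.mem_powers_iff] at hy
    obtain ⟨i, hi⟩ := hy
    rw [hdec, map_mul, map_pow, hpow, ← hi, ← pow_mul, map_pow, hx', smul_pow, one_pow, smul_mul_assoc, one_mul]
    exact pres_smul (pres_pow pres_tmat _) _
  intro n hn f hf
  obtain ⟨j, hj⟩ := Submonoid.mem_powers_iff _ _ |>.1 (hgen ⟨θ ⟨n, hn⟩, ⟨⟨n, hn⟩, rfl⟩⟩)
  replace hj : u₀ ^ j = θ ⟨n, hn⟩ := congrArg Subtype.val hj
  set z : N := (h₀ ^ j)⁻¹ * ⟨n, hn⟩ with hz
  have hz1 : θ z = 1 := by rw [hz, map_mul, map_inv, map_pow, hθh, hj, inv_mul_cancel]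
  have hzc : (z : L) * x = x * (z : L) := by
    have h := hθ z
    rw [hz1, Units.val_one, ZMod.val_one, pow_one, mul_inv_eq_iff_eq_mul] at h
    exact h
  have hnz : n = (h₀ : L) ^ j * (z : L) := by
    simp [hz]
  have hpres : Pres (ρ' n) := by
    rw [hnz, map_mul, map_pow]
    exact pres_mul (pres_pow hh0pres j) (hcent _ hzc)
  obtain ⟨f', hf', e⟩ := hpres f hf
  rw [cj_apply, e, mul_assoc, ← map_mul, mul_inv_cancel, map_one, mul_one]
  exact hf'

end CfsgLib.Char.HalfDegree
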