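import Mathlib

/-!
# The orthogonal group of the trace form on `sl(2)`

An isometry of a nondegenerate quadratic space of dimension three is, up to sign, conjugation by
an invertible 2 x 2 matrix, unique up to scalars.
-/

set_option autoImplicit false
set_option linter.unusedSectionVars false

namespace CfsgLib.Char.HalfDegree

open Matrix

variable {k : Type*} [Field k]

local notation "M2" => Matrix (Fin 2) (Fin 2) k

/-- Coordinates on the trace zero matrices. -/
def slLin : (Fin 3 → k) →ₗ[k] M2 where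
  toFun v := !![v 1, v 0; v 2, -v 1]
  map_add' u v := by ext i j; fin_cases i <;> fin_cases j <;> simp [add_comm]
  map_smul' a v := by ext i j; fin_cases i <;> fin_cases j <;> simp

/-- The symmetric form on coordinates. -/
def b3 (u v : Fin 3 → k) : k := 2 * (u 1 * v 1) + u 0 * v 2 + u 2 * v 0

theorem trace_slLin (u v : Fin 3 → k) : (slLin u * slLin v).trace = b3 u v := by
  simp [slLin, b3, trace_fin_two, Matrix.mul_apply, Fin.sum_univ_two]
  ring

theorem slLin_injective : Function.Injective (slLin : (Fin 3 → k) →ₗ[k] M2) := by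
  intro u v h
  funext i
  fin_cases i
  · simpa [slLin] using congrFun (congrFun h 0) 1
  · simpa [slLin] using congrFun (congrFun h 0) 0
  · simpa [slLin] using congrFun (congrFun h 1) 0

/-- The isometry `g` is conjugation by `m` up to the sign `ε`. -/
def IsAd (g : (Fin 3 → k) →ₗ[k] (Fin 3 → k)) (m : GL (Fin 2) k) : Prop :=
  ∃ ε : k, (ε = 1 ∨ ε = -1) ∧ ∀ v, slLin (g v) = ε • (m.1 * slLin v * (m⁻¹).1)

theorem isAd_mul {g g' : (Fin 3 → k) →ₗ[k] (Fin 3 → k)} {m m' : GL (Fin 2) k}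
    (h : IsAd g m) (h' : IsAd g' m') : IsAd (g * g') (m * m') := by
  obtain ⟨ε, hε, he⟩ := h
  obtain ⟨ε', hε', he'⟩ := h'
  refine ⟨ε * ε', by rcases hε with rfl | rfl <;> rcases hε' with rfl | rfl <;> simp, fun v => ?_⟩
  rw [Module.End.mul_apply, he, he', _root_.mul_inv_rev, Units.val_mul, Units.val_mul, Matrix.mul_smul,
    Matrix.smul_mul, smul_smul]
  simp only [mul_assoc]

theorem mul_entry (A B : M2) (i j : Fin 2) : (A * B) i j = A i 0 * B 0 j + A i 1 * B 1 j := by
  rw [Matrix.mul_apply, Fin.sum_univ_two]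

theorem eq_scalar_of_commute {n : M2} (h1 : n * !![0, 1; 0, 0] = !![0, 1; 0, 0] * n)
    (h2 : n * !![0, 0; 1, 0] = !![0, 0; 1, 0] * n) : n = n 0 0 • 1 := by
  have e1 : (n * !![0, 1; 0, 0] : M2) 1 1 = (!![0, 1; 0, 0] * n : M2) 1 1 := by rw [h1]
  have e2 : (n * !![0, 0; 1, 0] : M2) 0 0 = (!![0, 0; 1, 0] * n : M2) 0 0 := by rw [h2]
  have e3 : (n * !![0, 1; 0, 0] : M2) 0 1 = (!![0, 1; 0, 0] * n : M2) 0 1 := by rw [h1]
  simp only [mul_entry] at e1 e2 e3
  simp at e1 e2 e3
  ext i j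
  fin_cases i <;> fin_cases j <;> simp [e1, e2, e3]

theorem isAd_unique (h2 : (2 : k) ≠ 0) {g : (Fin 3 → k) →ₗ[k] (Fin 3 → k)} {m m' : GL (Fin 2) k}
    (h : IsAd g m) (h' : IsAd g m') : m⁻¹ * m' ∈ Subgroup.center (GL (Fin 2) k) := by
  obtain ⟨ε, hε, he⟩ := h
  obtain ⟨ε', hε', he'⟩ := h'
  set n : GL (Fin 2) k := m⁻¹ * m' with hn
  have key : ∀ v, n.1 * slLin v = (ε * ε') • (slLin v * n.1) := fun v => by
    have e := (he v).symm.trans (he' v)
    have e2 : m.1 * slLin v * (m⁻¹).1 = (ε * ε') • (m'.1 * slLin v * (m'⁻¹).1) := by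
      have hεε : ε * ε = 1 := by rcases hε with rfl | rfl <;> ring
      rw [mul_smul, ← e, smul_smul, hεε, one_smul]
    have e3 := congrArg (fun A => (m⁻¹).1 * A * m'.1) e2
    simp only [Matrix.mul_smul, Matrix.smul_mul] at e3
    have i1 : ∀ A : M2, (m⁻¹).1 * (m.1 * A) = A := fun A => by rw [← mul_assoc, Units.inv_mul, one_mul]
    have i2 : (m'⁻¹).1 * m'.1 = (1 : M2) := Units.inv_mul m'
    rw [mul_assoc m.1, i1, show (m⁻¹).1 * (m'.1 * slLin v * (m'⁻¹).1) * m'.1 = n.1 * slLin v by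
      rw [hn, Units.val_mul, mul_assoc, mul_assoc (m'.1 * slLin v), i2, mul_one, mul_assoc], mul_assoc] at e3
    have hεε : (ε * ε') * (ε * ε') = 1 := by
      rcases hε with rfl | rfl <;> rcases hε' with rfl | rfl <;> ring
    rw [show slLin v * n.1 = slLin v * ((m⁻¹).1 * m'.1) by rw [hn, Units.val_mul], e3, smul_smul, hεε,
      one_smul]
  have hcase : n.1 * slLin ![0, 1, 0] = -(slLin ![0, 1, 0] * n.1) →
      n.1 * slLin ![1, 0, 0] = -(slLin ![1, 0, 0] * n.1) →
      n.1 * slLin ![0, 0, 1] = -(slLin ![0, 0, 1] * n.1) → False := by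
    intro p1 p0 p2
    have t1 : (n.1 * slLin ![0, 1, 0] : M2) 0 0 = (-(slLin ![0, 1, 0] * n.1) : M2) 0 0 := by rw [p1]
    have t2 : (n.1 * slLin ![0, 1, 0] : M2) 1 1 = (-(slLin ![0, 1, 0] * n.1) : M2) 1 1 := by rw [p1]
    have t3 : (n.1 * slLin ![1, 0, 0] : M2) 1 1 = (-(slLin ![1, 0, 0] * n.1) : M2) 1 1 := by rw [p0]
    simp only [Matrix.neg_apply, mul_entry] at t1 t2 t3
    simp [slLin] at t1 t2 t3
    have z1 : n.1 0 0 = 0 := (mul_eq_zero.1 (show n.1 0 0 * (2 : k) = 0 by linear_combination t1)).resolve_right h2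
    have z2 : n.1 1 1 = 0 := (mul_eq_zero.1 (show n.1 1 1 * (2 : k) = 0 by linear_combination -t2)).resolve_right h2
    have hd := (Matrix.isUnit_iff_isUnit_det _).1 n.isUnit
    rw [Matrix.det_fin_two, z1, z2, t3] at hd
    simp at hd
  have hone : ε * ε' = 1 := by
    rcases hε with rfl | rfl <;> rcases hε' with rfl | rfl
    · ring
    · exfalso
      exact hcase (by simpa using key ![0, 1, 0]) (by simpa using key ![1, 0, 0]) (by simpa using key ![0, 0, 1])
    · exfalso
      exact hcase (by simpa using key ![0, 1, 0]) (by simpa using key ![1, 0, 0]) (by simpa using key ![0, 0, 1])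
    · ring
  simp only [hone, one_smul] at key
  have hs := eq_scalar_of_commute (n := n.1) (by simpa [slLin] using key ![1, 0, 0])
    (by simpa [slLin] using key ![0, 0, 1])
  rw [Subgroup.mem_center_iff]
  intro g
  refine Units.ext ?_
  show g.1 * n.1 = n.1 * g.1
  rw [hs, Matrix.mul_smul, Matrix.smul_mul, mul_one, one_mul]

theorem exists_isAd (h2 : (2 : k) ≠ 0) (g : (Fin 3 → k) →ₗ[k] (Fin 3 → k))
    (hg : ∀ u v, b3 (g u) (g v) = b3 u v) : ∃ m : GL (Fin 2) k, IsAd g m := by
  set u0 := g ![1, 0, 0] with hu0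
  set u1 := g ![0, 1, 0] with hu1
  set u2 := g ![0, 0, 1] with hu2
  have b00 : b3 u0 u0 = 0 := by rw [hu0, hg]; simp [b3]
  have b02 : b3 u0 u2 = 1 := by rw [hu0, hu2, hg]; simp [b3]
  have b22 : b3 u2 u2 = 0 := by rw [hu2, hg]; simp [b3]
  have b11 : b3 u1 u1 = 2 := by rw [hu1, hg]; simp [b3]
  have b01 : b3 u0 u1 = 0 := by rw [hu0, hu1, hg]; simp [b3]
  have b21 : b3 u2 u1 = 0 := by rw [hu2, hu1, hg]; simp [b3]
  rw [← trace_slLin] at b00 b02 b22 b11 b01 b21
  set a := slLin u0 with ha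
  set b := slLin u1 with hb
  set e := slLin u2 with he
  have haa : a * a = 0 := by
    have h : (2 : k) * (u0 1 * u0 1 + u0 0 * u0 2) = 0 := by
      rw [ha, trace_slLin, b3] at b00
      linear_combination b00
    have h' := (mul_eq_zero.1 h).resolve_left h2
    ext i j
    rw [mul_entry]
    fin_cases i <;> fin_cases j <;> simp [ha, slLin] <;> first | linear_combination h' | ring
  have ha0 : a ≠ 0 := fun h => by simp [h] at b02
  obtain ⟨w, hw⟩ : ∃ w, a *ᵥ w ≠ 0 := by
    by_contra hall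
    push Not at hall
    exact ha0 (Matrix.ext_of_mulVec_single fun i => by rw [hall, zero_mulVec])
  set M : M2 := Matrix.of fun i j => (![a *ᵥ w, w] j) i with hM
  have hMu : IsUnit M := by
    rw [← Matrix.linearIndependent_cols_iff_isUnit, show M.col = ![a *ᵥ w, w] from rfl,
      LinearIndependent.pair_iff]
    intro s t hst
    have := congrArg (fun u => a *ᵥ u) hst
    simp only [mulVec_add, mulVec_smul, mulVec_mulVec, haa, zero_mulVec, smul_zero, zero_add, mulVec_zero] at this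
    have ht := (smul_eq_zero.1 this).resolve_right hw
    rw [ht, zero_smul, add_zero] at hst
    exact ⟨(smul_eq_zero.1 hst).resolve_right hw, ht⟩
  obtain ⟨m1, hm1⟩ := hMu
  have e1 : a * m1.1 = m1.1 * !![0, 1; 0, 0] := by
    refine Matrix.ext_of_mulVec_single fun j => ?_
    rw [← mulVec_mulVec, ← mulVec_mulVec, hm1, mulVec_single_one, mulVec_single_one]
    fin_cases j
    · show a *ᵥ (a *ᵥ w) = M *ᵥ (fun i => (!![0, 1; 0, 0] : M2) i 0)
      rw [mulVec_mulVec, haa, zero_mulVec, show (fun i => (!![0, 1; 0, 0] : M2) i 0) = (0 : Fin 2 → k) from by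
        funext i; fin_cases i <;> rfl, mulVec_zero]
    · show a *ᵥ w = M *ᵥ (fun i => (!![0, 1; 0, 0] : M2) i 1)
      rw [show (fun i => (!![0, 1; 0, 0] : M2) i 1) = Pi.single (0 : Fin 2) (1 : k) from by
        funext i; fin_cases i <;> simp, mulVec_single_one]
      rfl
  have cj : ∀ (m : GL (Fin 2) k) (X Y : M2), ((m⁻¹).1 * X * m.1 * ((m⁻¹).1 * Y * m.1)).trace = (X * Y).trace := by
    intro m X Y
    rw [show (m⁻¹).1 * X * m.1 * ((m⁻¹).1 * Y * m.1) = (m⁻¹).1 * (X * Y) * m.1 by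
      simp only [mul_assoc]; rw [← mul_assoc m.1 (m⁻¹).1, Units.mul_inv, one_mul], trace_mul_cycle,
      Units.mul_inv, one_mul]
  set e' := (m1⁻¹).1 * e * m1.1 with he'
  have a' : (m1⁻¹).1 * a * m1.1 = (!![0, 1; 0, 0] : M2) := by
    rw [mul_assoc, e1, ← mul_assoc, Units.inv_mul, one_mul]
  have htr : ∀ v : Fin 3 → k, (slLin v).trace = 0 := fun v => by simp [slLin, trace_fin_two]
  have he11 : e' 1 1 = -(e' 0 0) := by
    have : e'.trace = 0 := by rw [he', trace_mul_cycle, Units.mul_inv, one_mul]; exact htr u2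
    rw [trace_fin_two] at this
    linear_combination this
  have he10 : e' 1 0 = 1 := by
    have h := (cj m1 a e).trans b02
    rw [a', ← he'] at h
    rw [trace_fin_two, mul_entry, mul_entry] at h
    simpa using h
  have he01 : e' 0 1 = -(e' 0 0 * e' 0 0) := by
    have h := (cj m1 e e).trans b22
    rw [← he'] at h
    rw [trace_fin_two, mul_entry, mul_entry] at h
    simp [he11, he10] at h
    have h' : (2 : k) * (e' 0 1 + e' 0 0 * e' 0 0) = 0 := by linear_combination h
    linear_combination (mul_eq_zero.1 h').resolve_left h2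
  set β := e' 0 0 with hβ
  let u : GL (Fin 2) k := ⟨!![1, -β; 0, 1], !![1, β; 0, 1],
    by ext i j; fin_cases i <;> fin_cases j <;> simp [Matrix.mul_apply],
    by ext i j; fin_cases i <;> fin_cases j <;> simp [Matrix.mul_apply]⟩
  set m2 := m1 * u⁻¹ with hm2
  have cj2 : ∀ X : M2, (m2⁻¹).1 * X * m2.1 = u.1 * ((m1⁻¹).1 * X * m1.1) * (u⁻¹).1 := fun X => by
    rw [hm2, _root_.mul_inv_rev, inv_inv, Units.val_mul, Units.val_mul]
    simp only [mul_assoc]
  have a2 : (m2⁻¹).1 * a * m2.1 = !![0, 1; 0, 0] := by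
    rw [cj2, a']
    ext i j
    fin_cases i <;> fin_cases j <;> simp [u]
  have e2 : (m2⁻¹).1 * e * m2.1 = !![0, 0; 1, 0] := by
    rw [cj2, ← he', show e' = !![β, -(β * β); 1, -β] from by
      ext i j; fin_cases i <;> fin_cases j <;> simp [hβ, he11, he10, he01]]
    ext i j
    fin_cases i <;> fin_cases j <;> simp [u, Matrix.mul_apply] <;> ring
  set b' := (m2⁻¹).1 * b * m2.1 with hb'
  have hb10 : b' 1 0 = 0 := by
    have h := (cj m2 a b).trans b01
    rw [a2, ← hb'] at h
    rw [trace_fin_two, mul_entry, mul_entry] at h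
    simpa using h
  have hb01 : b' 0 1 = 0 := by
    have h := (cj m2 e b).trans b21
    rw [e2, ← hb'] at h
    rw [trace_fin_two, mul_entry, mul_entry] at h
    simpa using h
  have hb11 : b' 1 1 = -(b' 0 0) := by
    have : b'.trace = 0 := by rw [hb', trace_mul_cycle, Units.mul_inv, one_mul]; exact htr u1
    rw [trace_fin_two] at this
    linear_combination this
  have hb00 : b' 0 0 = 1 ∨ b' 0 0 = -1 := by
    have h := (cj m2 b b).trans b11
    rw [← hb'] at h
    rw [trace_fin_two, mul_entry, mul_entry] at h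
    simp [hb11, hb10, hb01] at h
    have h' : (2 : k) * ((b' 0 0 - 1) * (b' 0 0 + 1)) = 0 := by linear_combination h
    rcases mul_eq_zero.1 ((mul_eq_zero.1 h').resolve_left h2) with h'' | h''
    · exact Or.inl (sub_eq_zero.1 h'')
    · exact Or.inr (eq_neg_of_add_eq_zero_left h'')
  have back : ∀ (m : GL (Fin 2) k) {X Y : M2}, (m⁻¹).1 * X * m.1 = Y → X = m.1 * Y * (m⁻¹).1 := by
    intro m X Y h
    rw [← h, mul_assoc (m⁻¹).1, ← mul_assoc m.1, Units.mul_inv, one_mul, mul_assoc, Units.mul_inv, mul_one]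
  have glue : ∀ (m : GL (Fin 2) k) (ε : k), a = ε • (m.1 * slLin ![1, 0, 0] * (m⁻¹).1) →
      b = ε • (m.1 * slLin ![0, 1, 0] * (m⁻¹).1) → e = ε • (m.1 * slLin ![0, 0, 1] * (m⁻¹).1) →
      ∀ v, slLin (g v) = ε • (m.1 * slLin v * (m⁻¹).1) := by
    intro m ε ea eb ee v
    have hv : v = v 0 • ![1, 0, 0] + v 1 • ![0, 1, 0] + v 2 • ![0, 0, 1] := by
      funext i; fin_cases i <;> simp
    rw [hv]
    simp only [map_add, map_smul, ← hu0, ← hu1, ← hu2, ← ha, ← hb, ← he, ea, eb, ee, Matrix.mul_add,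
      Matrix.add_mul, Matrix.mul_smul, Matrix.smul_mul, smul_add, smul_comm ε]
  rcases hb00 with h | h
  · refine ⟨m2, 1, Or.inl rfl, glue m2 1 ?_ ?_ ?_⟩ <;> rw [one_smul] <;> apply back
    · rw [a2]; simp [slLin]
    · rw [← hb']; ext i j; fin_cases i <;> fin_cases j <;> simp [slLin, h, hb11, hb10, hb01]
    · rw [e2]; simp [slLin]
  · let t : GL (Fin 2) k := ⟨!![1, 0; 0, -1], !![1, 0; 0, -1],
      by ext i j; fin_cases i <;> fin_cases j <;> simp [Matrix.mul_apply],
      by ext i j; fin_cases i <;> fin_cases j <;> simp [Matrix.mul_apply]⟩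
    have hcj : ∀ X : M2, ((m2 * t).1 * X * ((m2 * t)⁻¹).1) = m2.1 * (t.1 * X * (t⁻¹).1) * (m2⁻¹).1 := fun X => by
      rw [_root_.mul_inv_rev]
      simp only [Units.val_mul, mul_assoc]
    refine ⟨m2 * t, -1, Or.inr rfl, glue (m2 * t) (-1) ?_ ?_ ?_⟩ <;>
      rw [hcj, neg_one_smul, ← neg_mul, ← mul_neg] <;> apply back
    · rw [a2]; ext i j; fin_cases i <;> fin_cases j <;> simp [slLin, t, Matrix.mul_apply]
    · rw [← hb']; ext i j; fin_cases i <;> fin_cases j <;> simp [slLin, t, Matrix.mul_apply, h, hb11, hb10, hb01]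
    · rw [e2]; ext i j; fin_cases i <;> fin_cases j <;> simp [slLin, t, Matrix.mul_apply]

/-- A group of isometries maps to `PGL(2)`. -/
theorem exists_projHom (h2 : (2 : k) ≠ 0) {L : Type*} [Group L] (σ : L →* Module.End k (Fin 3 → k))
    (hσ : ∀ g u v, b3 (σ g u) (σ g v) = b3 u v) :
    ∃ ψ : L →* Matrix.ProjGenLinGroup (Fin 2) k, ∀ g, ψ g = 1 → σ g = 1 ∨ σ g = -1 := by
  choose m hm using fun g => exists_isAd h2 (σ g) (hσ g)
  refine ⟨MonoidHom.mk' (fun g => Matrix.ProjGenLinGroup.mk (m g)) fun a b => ?_, fun g hg => ?_⟩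
  · have h : IsAd (σ (a * b)) (m a * m b) := by rw [map_mul]; exact isAd_mul (hm a) (hm b)
    rw [← map_mul, ← inv_mul_eq_one, ← map_inv, ← map_mul, Matrix.ProjGenLinGroup.mk_eq_one]
    exact isAd_unique h2 (hm (a * b)) h
  · have hg' : Matrix.ProjGenLinGroup.mk (m g) = 1 := hg
    rw [Matrix.ProjGenLinGroup.mk_eq_one, Subgroup.mem_center_iff] at hg'
    obtain ⟨ε, hε, he⟩ := hm g
    have hid : ∀ v, σ g v = ε • v := fun v => slLin_injective (by
      rw [he, map_smul]
      congr 1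
      let t : ∀ X : M2, X.det ≠ 0 → (m g).1 * X = X * (m g).1 := fun X hX =>
        (congrArg Units.val (hg' (Matrix.GeneralLinearGroup.mkOfDetNeZero X hX))).symm
      have hall : (m g).1 * slLin v = slLin v * (m g).1 := by
        have t1 := t !![1, 1; 0, 1] (by simp [Matrix.det_fin_two])
        have t2 := t !![1, 0; 1, 1] (by simp [Matrix.det_fin_two])
        have hs := eq_scalar_of_commute (n := (m g).1)
          (by
            rw [show (!![0, 1; 0, 0] : M2) = !![1, 1; 0, 1] - 1 by ext i j; fin_cases i <;> fin_cases j <;> simp]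
            rw [mul_sub, sub_mul, mul_one, one_mul, t1])
          (by
            rw [show (!![0, 0; 1, 0] : M2) = !![1, 0; 1, 1] - 1 by ext i j; fin_cases i <;> fin_cases j <;> simp]
            rw [mul_sub, sub_mul, mul_one, one_mul, t2])
        rw [hs, Matrix.mul_smul, Matrix.smul_mul, mul_one, one_mul]
      rw [hall, mul_assoc, Units.mul_inv, mul_one])
    rcases hε with rfl | rfl
    · exact Or.inl (LinearMap.ext fun v => by rw [hid, one_smul]; rfl)
    · exact Or.inr (LinearMap.ext fun v => by rw [hid, neg_one_smul]; rfl)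

end CfsgLib.Char.HalfDegree
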