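import Cfsg.Agent.Lib.Char.HalfDegree.SingleBlock
import Cfsg.Agent.Lib.Char.HalfDegree.Model
import Cfsg.Agent.Lib.Char.HalfDegree.OrthThree

/-!
# The three dimensional orthogonal representation

From an irreducible representation of dimension below `p / 2` in characteristic `p`, a homomorphism
to `PGL(2)` that is nontrivial on the element of order `p`.
-/

set_option autoImplicit false
set_option linter.unusedSectionVars false

namespace CfsgLib.Char.HalfDegree

open Matrix Finset

variable {k : Type*} [Field k] {c p : ℕ} [Fact p.Prime] [CharP k p] {L : Type*} [Group L] [Finite L]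
  {x : L}

local notation "Mat" => Matrix (Fin (c + 1)) (Fin (c + 1)) k

/-- The trace pairing on the model. -/
theorem model_traces (hd : c + 2 < p) (hc : c ≠ 0) :
    ((hmat : Mat) * hmat).trace ≠ 0 ∧
      2 * ((dmat : Mat) * ymat).trace = -((hmat : Mat) * hmat).trace := by
  have hcast : ∀ n : ℕ, 0 < n → n < p → (n : k) ≠ 0 := fun n h0 h1 => by
    rw [Ne, CharP.cast_eq_zero_iff k p]
    exact Nat.not_dvd_of_pos_of_lt h0 h1
  refine ⟨fun h => ?_, ?_⟩
  · have h3 := trace_hmat_hmat (k := k) (c := c)
    rw [h, mul_zero, eq_comm, mul_eq_zero, mul_eq_zero] at h3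
    rcases h3 with (h3 | h3) | h3
    · exact hcast c (Nat.pos_of_ne_zero hc) (by omega) h3
    · exact hcast (c + 1) (by omega) (by omega) (by exact_mod_cast h3)
    · exact hcast (c + 2) (by omega) hd (by exact_mod_cast h3)
  · have hinv : (tmat (-1) : Mat) * tmat 1 = 1 := by rw [tmat_mul, neg_add_cancel, tmat_zero]
    have e : ((ymat + hmat + dmat : Mat) * (ymat + hmat + dmat)).trace = ((ymat : Mat) * ymat).trace := by
      have h1 : (tmat 1 : Mat) * (ymat * ymat) = (ymat + hmat + dmat) * (ymat + hmat + dmat) * tmat 1 := by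
        rw [← mul_assoc, tmat_one_mul_ymat, mul_assoc, tmat_one_mul_ymat, mul_assoc]
      have h2 := congrArg (fun X => ((tmat (-1) : Mat) * X).trace) h1
      simp only [← mul_assoc, hinv, one_mul] at h2
      rw [mul_assoc (tmat (-1)), trace_mul_cycle, mul_eq_one_comm.mp hinv, one_mul] at h2
      exact h2.symm
    simp only [add_mul, mul_add, Matrix.trace_add, trace_ymat_ymat, trace_dmat_dmat, trace_ymat_hmat,
      trace_dmat_hmat, trace_mul_comm hmat ymat, trace_mul_comm hmat dmat, trace_mul_comm ymat dmat] at e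
    linear_combination e

/-- Orthogonal projection on the model. -/
def projMap : Module.End k Mat where
  toFun f := (((dmat : Mat) * ymat).trace⁻¹ * (ymat * f).trace) • dmat +
    (((hmat : Mat) * hmat).trace⁻¹ * (hmat * f).trace) • hmat +
    (((dmat : Mat) * ymat).trace⁻¹ * (dmat * f).trace) • ymat
  map_add' f g := by
    simp only [mul_add, Matrix.trace_add, add_smul]
    abel
  map_smul' a f := by
    simp only [mul_smul_comm, Matrix.trace_smul, smul_eq_mul, RingHom.id_apply, smul_add, smul_smul]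
    module

theorem projMap_apply (f : Mat) : projMap f = (((dmat : Mat) * ymat).trace⁻¹ * (ymat * f).trace) • dmat +
    (((hmat : Mat) * hmat).trace⁻¹ * (hmat * f).trace) • hmat +
    (((dmat : Mat) * ymat).trace⁻¹ * (dmat * f).trace) • ymat := rfl

theorem selfAdj_projMap : SelfAdj (projMap : Module.End k Mat) := fun f f' => by
  simp only [projMap_apply, add_mul, mul_add, smul_mul_assoc, mul_smul_comm, Matrix.trace_add, Matrix.trace_smul,
    smul_eq_mul]
  rw [trace_mul_comm f dmat, trace_mul_comm f hmat, trace_mul_comm f ymat]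
  ring

theorem projMap_mem (f : Mat) : projMap f ∈ (w0Sp : Submodule k Mat) :=
  add_mem (add_mem (Submodule.smul_mem _ _ dmat_mem) (Submodule.smul_mem _ _ hmat_mem))
    (Submodule.smul_mem _ _ ymat_mem)

theorem projMap_fix (hd : c + 2 < p) (h2 : (2 : k) ≠ 0) (hc : c ≠ 0) {f : Mat} (hf : f ∈ (w0Sp : Submodule k Mat)) :
    projMap f = f := by
  obtain ⟨hH, hDY⟩ := model_traces (k := k) (p := p) hd hc
  have hD : ((dmat : Mat) * ymat).trace ≠ 0 := fun h => hH (by
    rw [h, mul_zero, eq_comm, neg_eq_zero] at hDY; exact hDY)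
  induction hf using Submodule.span_induction with
  | mem f hf =>
    simp only [Set.mem_insert_iff, Set.mem_singleton_iff] at hf
    rcases hf with rfl | rfl | rfl <;>
      simp [projMap_apply, trace_ymat_ymat, trace_dmat_dmat, trace_ymat_hmat, trace_dmat_hmat,
        trace_mul_comm hmat ymat, trace_mul_comm hmat dmat, trace_mul_comm ymat dmat, hH, hD]
  | zero => rw [map_zero]
  | add f g _ _ hf hg => rw [map_add, hf, hg]
  | smul a f _ hf => rw [map_smul, hf]

theorem projMap_comm (hd : c + 2 < p) (h2 : (2 : k) ≠ 0) (hc : c ≠ 0) {ρ : L →* Mat} {n : L}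
    (hn : ∀ f ∈ (w0Sp : Submodule k Mat), cj ρ n f ∈ (w0Sp : Submodule k Mat))
    (hn' : ∀ f ∈ (w0Sp : Submodule k Mat), cj ρ n⁻¹ f ∈ (w0Sp : Submodule k Mat)) :
    cj ρ n * projMap = projMap * cj ρ n := by
  refine LinearMap.ext fun f => ?_
  simp only [Module.End.mul_apply]
  have hperp : ∀ g : Mat, (∀ u ∈ (w0Sp : Submodule k Mat), (u * g).trace = 0) → projMap g = 0 := fun g hg => by
    rw [projMap_apply, hg _ dmat_mem, hg _ hmat_mem, hg _ ymat_mem]
    simp
  have horth : ∀ u ∈ (w0Sp : Submodule k Mat), (u * (f - projMap f)).trace = 0 := fun u hu => by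
    rw [mul_sub, Matrix.trace_sub, ← selfAdj_projMap u f, projMap_fix (p := p) hd h2 hc hu, sub_self]
  have h := hperp (cj ρ n (f - projMap f)) fun u hu => by
    rw [trace_mul_comm, trace_cj_left, trace_mul_comm]
    exact horth _ (hn' u hu)
  rw [map_sub, map_sub, sub_eq_zero, projMap_fix (p := p) hd h2 hc (hn _ (projMap_mem f))] at h
  exact h.symm

set_option maxHeartbeats 1000000 in
/-- The homomorphism to `PGL(2)`. -/
theorem exists_psi [IsAlgClosed k] (D : LocData p x) (hd : 2 * c + 3 ≤ p) {ρ₀ : L →* Mat} (hirr : Irred ρ₀)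
    (hgen : Subgroup.normalClosure {x} = ⊤) (hx : ρ₀ x ≠ 1) :
    ∃ ψ : L →* Matrix.ProjGenLinGroup (Fin 2) k, ψ x ≠ 1 := by
  classical
  have hp : p.Prime := Fact.out
  have hblock := single_block D hd hirr hgen hx
  have hc : c ≠ 0 := fun e => by
    subst e
    have := nilpotent_rho ρ₀ D.pow_eq_one
    exact hx (sub_eq_zero.1 (by simpa using this))
  have hd2 : c + 2 < p := by omega
  have h2 : (2 : k) ≠ 0 := by
    have : ((2 : ℕ) : k) ≠ 0 := by
      rw [Ne, CharP.cast_eq_zero_iff k p]
      exact Nat.not_dvd_of_pos_of_lt two_pos (by omega)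
    simpa using this
  obtain ⟨ρ, hρx, hρN⟩ := exists_model D hd2.le ρ₀ hblock
  obtain ⟨hH, hDY⟩ := model_traces (k := k) (p := p) hd2 hc
  have hD : ((dmat : Mat) * ymat).trace ≠ 0 := fun h => hH (by
    rw [h, mul_zero, eq_comm, neg_eq_zero] at hDY; exact hDY)
  set π : Module.End k Mat := projMap with hπ
  have hππ : π * π = π := LinearMap.ext fun f => projMap_fix (p := p) hd2 h2 hc (projMap_mem f)
  obtain ⟨π', hi', hg', hker1, hker2, hsa⟩ := exists_lift D hd ρ hππ fun n hn =>
    projMap_comm (p := p) hd2 h2 hc (hρN n hn) (hρN n⁻¹ (inv_mem hn))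
  have hsa' := hsa selfAdj_projMap
  set W : Submodule k Mat := LinearMap.range π' with hW
  have hWfix : ∀ w ∈ W, π' w = w := by
    rintro _ ⟨f, rfl⟩
    rw [← Module.End.mul_apply, hi']
  have hWg : ∀ g, ∀ w ∈ W, cj ρ g w ∈ W := fun g w hw => by
    refine ⟨cj ρ g w, ?_⟩
    conv_rhs => rw [← hWfix w hw, ← Module.End.mul_apply, hg' g, Module.End.mul_apply]
  have hWnd : ∀ w ∈ W, (∀ w' ∈ W, (w * w').trace = 0) → w = 0 := fun w hw h => by
    refine Matrix.ext fun i j => ?_
    have h0 := h _ ⟨Matrix.single j i 1, rfl⟩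
    rw [← hsa', hWfix w hw, Matrix.trace_mul_single] at h0
    simpa using h0
  -- `x` acts on `W` as a regular unipotent
  have hcjx : ∀ {f f' : Mat}, tmat 1 * f = f' * tmat 1 → cj ρ x f = f' := fun {f f'} h => by
    rw [cj_apply, hρx, h, ← hρx, mul_assoc, ← map_mul, mul_inv_cancel, map_one, mul_one]
  set A : Module.End k Mat := cj ρ x - 1 with hA
  have hAD : A dmat = 0 := by
    rw [hA, LinearMap.sub_apply, Module.End.one_apply, hcjx tmat_one_comm_dmat, sub_self]
  have hAH : A hmat = 2 • dmat := by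
    rw [hA, LinearMap.sub_apply, Module.End.one_apply, hcjx tmat_one_mul_hmat, add_sub_cancel_left]
  have hAY : A ymat = hmat + dmat := by
    rw [hA, LinearMap.sub_apply, Module.End.one_apply, hcjx tmat_one_mul_ymat]
    abel
  have hπA : ∀ f, π (A f) = A (π f) := fun f => by
    have h := LinearMap.congr_fun (projMap_comm (p := p) hd2 h2 hc
      (hρN x (Subgroup.le_normalizer (Subgroup.mem_zpowers x)))
      (hρN x⁻¹ (inv_mem (Subgroup.le_normalizer (Subgroup.mem_zpowers x))))) f
    simp only [Module.End.mul_apply] at h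
    simp only [hA, LinearMap.sub_apply, Module.End.one_apply, map_sub]
    exact congrArg (· - π f) h.symm
  have hAW : ∀ w ∈ W, A w ∈ W := fun w hw => by
    simp only [hA, LinearMap.sub_apply, Module.End.one_apply]
    exact sub_mem (hWg x w hw) hw
  let toW0 : W →ₗ[k] (w0Sp : Submodule k Mat) :=
    LinearMap.codRestrict _ (π.comp W.subtype) (fun w => projMap_mem _)
  let fromW0 : (w0Sp : Submodule k Mat) →ₗ[k] W :=
    LinearMap.codRestrict _ (π'.comp (w0Sp : Submodule k Mat).subtype) (fun f => LinearMap.mem_range_self π' _)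
  have hto : Function.Injective toW0 := by
    rw [injective_iff_map_eq_zero]
    intro w h
    exact Subtype.ext (hker1 _ (hWfix w w.2) (congrArg Subtype.val h))
  have hfrom : Function.Injective fromW0 := by
    rw [injective_iff_map_eq_zero]
    intro f h
    exact Subtype.ext (hker2 _ (projMap_fix (p := p) hd2 h2 hc f.2) (congrArg Subtype.val h))
  have hrank : Module.finrank k W = Module.finrank k (w0Sp : Submodule k Mat) :=
    le_antisymm (LinearMap.finrank_le_finrank_of_injective hto) (LinearMap.finrank_le_finrank_of_injective hfrom)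
  have hsurj : Function.Surjective toW0 := (LinearMap.injective_iff_surjective_of_finrank_eq_finrank hrank).1 hto
  obtain ⟨⟨wY, hwY⟩, hwY'⟩ := hsurj ⟨ymat, ymat_mem⟩
  replace hwY' : π wY = ymat := congrArg Subtype.val hwY'
  set a := A (A wY) with ha
  have haW : a ∈ W := hAW _ (hAW _ hwY)
  have hπa : π a = (2 : k) • dmat := by
    rw [ha, hπA, hπA, hwY', hAY, map_add, hAH, hAD, add_zero, two_nsmul, two_smul]
  have ha0 : a ≠ 0 := fun h => by
    rw [h, map_zero, eq_comm, smul_eq_zero] at hπa
    rcases hπa with h' | h'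
    · exact h2 h'
    · rw [h', zero_mul, Matrix.trace_zero] at hD
      exact hD rfl
  have hAa : A a = 0 := hker1 _ (hWfix _ (hAW _ haW)) (by rw [hπA, hπa, map_smul, hAD, smul_zero])
  have hxa : cj ρ x a = a := sub_eq_zero.1 (by rw [← hAa]; rfl)
  have haa : (a * a).trace = 0 := by
    nth_rewrite 1 [ha]
    rw [hA, LinearMap.sub_apply, Module.End.one_apply, sub_mul, Matrix.trace_sub, ← hA]
    conv_lhs => arg 1; rw [← hxa]
    rw [trace_cj, sub_self]
  obtain ⟨c₀, hc₀W, hc₀⟩ : ∃ c₀ ∈ W, (a * c₀).trace = 1 := by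
    by_contra hall
    push Not at hall
    refine ha0 (hWnd a haW fun w hw => ?_)
    by_contra hne
    exact hall _ (W.smul_mem (a * w).trace⁻¹ hw) (by rw [mul_smul_comm, Matrix.trace_smul, smul_eq_mul, inv_mul_cancel₀ hne])
  set cc := c₀ - ((c₀ * c₀).trace / 2) • a with hcc
  have hccW : cc ∈ W := sub_mem hc₀W (W.smul_mem _ haW)
  have hac : (a * cc).trace = 1 := by
    rw [hcc, mul_sub, mul_smul_comm, Matrix.trace_sub, Matrix.trace_smul, hc₀, haa, smul_zero, sub_zero]
  have hca : (cc * a).trace = 1 := by rw [trace_mul_comm, hac]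
  have hcc' : (cc * cc).trace = 0 := by
    simp only [hcc, mul_sub, sub_mul, mul_smul_comm, smul_mul_assoc, Matrix.trace_sub, Matrix.trace_smul,
      smul_eq_mul, trace_mul_comm c₀ a, hc₀, haa]
    field_simp
    ring
  -- the third vector
  let proj : Mat → Mat := fun w => w - (w * cc).trace • a - (w * a).trace • cc
  have hproj : ∀ w, (proj w * a).trace = 0 ∧ (proj w * cc).trace = 0 := fun w => by
    simp only [proj, sub_mul, smul_mul_assoc, Matrix.trace_sub, Matrix.trace_smul, smul_eq_mul, haa, hca, hac, hcc']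
    constructor <;> ring
  obtain ⟨w₁, hw₁W, hw₁⟩ : ∃ w ∈ W, proj w ≠ 0 := by
    by_contra hall
    push Not at hall
    have hle : W ≤ Submodule.span k ({a, cc} : Set Mat) := fun w hw => by
      have h := hall w hw
      simp only [proj, sub_sub, sub_eq_zero] at h
      rw [h]
      exact add_mem (Submodule.smul_mem _ _ (Submodule.subset_span (Set.mem_insert _ _)))
        (Submodule.smul_mem _ _ (Submodule.subset_span (Set.mem_insert_of_mem _ rfl)))
    have h3 : 3 ≤ Module.finrank k (w0Sp : Submodule k Mat) := by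
      have hli : LinearIndependent k (![dmat, hmat, ymat] : Fin 3 → Mat) := by
        rw [Fintype.linearIndependent_iff]
        intro t ht
        simp only [Fin.sum_univ_three, Matrix.cons_val_zero, Matrix.cons_val_one, Matrix.cons_val] at ht
        have e0 := congrArg (fun X => (ymat * X).trace) ht
        have e1 := congrArg (fun X => (hmat * X).trace) ht
        have e2 := congrArg (fun X => (dmat * X).trace) ht
        simp [mul_add, trace_ymat_ymat, trace_dmat_dmat, trace_ymat_hmat, trace_dmat_hmat,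
          trace_mul_comm hmat ymat, trace_mul_comm hmat dmat, trace_mul_comm ymat dmat, hH, hD] at e0 e1 e2
        intro i
        fin_cases i <;> assumption
      refine le_trans (le_of_eq ((finrank_span_eq_card hli).trans (Fintype.card_fin 3)).symm) ?_
      refine Submodule.finrank_mono (Submodule.span_mono ?_)
      rintro _ ⟨i, rfl⟩
      fin_cases i <;> simp
    have h4 := (Submodule.finrank_mono hle).trans (finrank_span_le_card (R := k) ({a, cc} : Set Mat))
    have h5 : ({a, cc} : Set Mat).toFinset.card ≤ 2 := by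
      rw [Set.toFinset_insert, Set.toFinset_singleton]
      exact Finset.card_le_two
    omega
  set b₀ := proj w₁ with hb₀
  have hb₀W : b₀ ∈ W := sub_mem (sub_mem hw₁W (W.smul_mem _ haW)) (W.smul_mem _ hccW)
  obtain ⟨hba, hbc⟩ := hproj w₁
  rw [← hb₀] at hba hbc
  have hind : ∀ α β γ : k, α • a + β • b₀ + γ • cc = 0 → α = 0 ∧ β = 0 ∧ γ = 0 := fun α β γ h => by
    have e0 := congrArg (fun X => (X * cc).trace) h
    have e2 := congrArg (fun X => (X * a).trace) h
    simp only [add_mul, smul_mul_assoc, Matrix.trace_add, Matrix.trace_smul, smul_eq_mul, hac, hca, haa, hcc',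
      hba, hbc, zero_mul, Matrix.trace_zero, mul_zero, mul_one, add_zero, zero_add] at e0 e2
    rw [e0, e2, zero_smul, zero_smul, zero_add, add_zero, smul_eq_zero] at h
    exact ⟨e0, h.resolve_right hw₁, e2⟩
  have hWfin : Module.finrank k W ≤ 3 := by
    rw [hrank]
    refine le_trans (finrank_span_le_card (R := k) ({dmat, hmat, ymat} : Set Mat)) ?_
    simp only [Set.toFinset_insert, Set.toFinset_singleton]
    exact Finset.card_le_three
  have hspan : ∀ b : Mat, b ∈ W → (∀ α β γ : k, α • a + β • b + γ • cc = 0 → α = 0 ∧ β = 0 ∧ γ = 0) →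
      ∀ w ∈ W, ∃ v : Fin 3 → k, w = v 0 • a + v 1 • b + v 2 • cc := by
    intro b hb hindb w hw
    have hli : LinearIndependent k (![a, b, cc] : Fin 3 → Mat) := by
      rw [Fintype.linearIndependent_iff]
      intro t ht
      simp only [Fin.sum_univ_three, Matrix.cons_val_zero, Matrix.cons_val_one, Matrix.cons_val] at ht
      obtain ⟨t0, t1, t2⟩ := hindb _ _ _ ht
      intro i
      fin_cases i <;> assumption
    have hle : Submodule.span k (Set.range ![a, b, cc]) ≤ W := by
      rw [Submodule.span_le]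
      rintro _ ⟨i, rfl⟩
      fin_cases i
      exacts [haW, hb, hccW]
    have heq := Submodule.eq_of_le_of_finrank_le hle (by rw [finrank_span_eq_card hli, Fintype.card_fin]; exact hWfin)
    rw [← heq, Submodule.mem_span_range_iff_exists_fun] at hw
    obtain ⟨v, hv⟩ := hw
    exact ⟨v, by rw [← hv, Fin.sum_univ_three]; rfl⟩
  have hbb : (b₀ * b₀).trace ≠ 0 := fun h => hw₁ (hWnd b₀ hb₀W fun w hw => by
    obtain ⟨v, rfl⟩ := hspan b₀ hb₀W hind w hw
    simp [mul_add, h, hba, hbc])
  obtain ⟨s, hs⟩ := IsAlgClosed.exists_pow_nat_eq ((2 : k) / (b₀ * b₀).trace) two_pos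
  have hs0 : s ≠ 0 := fun h => by
    rw [h, zero_pow two_ne_zero, eq_comm, div_eq_zero_iff] at hs
    exact hs.elim h2 hbb
  set b := s • b₀ with hb
  have hbW : b ∈ W := W.smul_mem _ hb₀W
  have hb2 : (b * b).trace = 2 := by
    rw [hb, smul_mul_assoc, mul_smul_comm, Matrix.trace_smul, Matrix.trace_smul, smul_eq_mul, smul_eq_mul,
      ← mul_assoc, ← pow_two, hs, div_mul_cancel₀ _ hbb]
  have hindb : ∀ α β γ : k, α • a + β • b + γ • cc = 0 → α = 0 ∧ β = 0 ∧ γ = 0 := fun α β γ h => by
    rw [hb, smul_smul] at h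
    obtain ⟨e0, e1, e2⟩ := hind _ _ _ h
    exact ⟨e0, (mul_eq_zero.1 e1).resolve_right hs0, e2⟩
  -- coordinates
  let emb : (Fin 3 → k) →ₗ[k] W :=
    { toFun := fun v => ⟨v 0 • a + v 1 • b + v 2 • cc,
        add_mem (add_mem (W.smul_mem _ haW) (W.smul_mem _ hbW)) (W.smul_mem _ hccW)⟩
      map_add' := fun u v => Subtype.ext (by
        simp only [Pi.add_apply, add_smul, Submodule.coe_add]
        abel)
      map_smul' := fun r v => Subtype.ext (by simp [smul_add, smul_smul]) }
  have hemb : Function.Bijective emb := by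
    refine ⟨(injective_iff_map_eq_zero _).2 fun v hv => ?_, fun w => ?_⟩
    · obtain ⟨e0, e1, e2⟩ := hindb _ _ _ (congrArg Subtype.val hv)
      funext i
      fin_cases i <;> assumption
    · obtain ⟨v, hv⟩ := hspan b hbW hindb w w.2
      exact ⟨v, Subtype.ext hv.symm⟩
  let E : (Fin 3 → k) ≃ₗ[k] W := LinearEquiv.ofBijective emb hemb
  have hform : ∀ u v : Fin 3 → k, ((E u : Mat) * (E v : Mat)).trace = b3 u v := fun u v => by
    show ((u 0 • a + u 1 • b + u 2 • cc) * (v 0 • a + v 1 • b + v 2 • cc)).trace = _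
    simp only [mul_add, add_mul, smul_mul_assoc, mul_smul_comm, Matrix.trace_add, Matrix.trace_smul, smul_eq_mul,
      hb2, hac, hca, haa, hcc']
    rw [hb]
    simp only [smul_mul_assoc, mul_smul_comm, Matrix.trace_smul, smul_eq_mul, hba, hbc,
      trace_mul_comm a b₀, trace_mul_comm cc b₀, b3]
    ring
  let σ : L →* Module.End k (Fin 3 → k) :=
    { toFun := fun g => E.symm.toLinearMap.comp (((cj ρ g).restrict (hWg g)).comp E.toLinearMap)
      map_one' := by
        refine LinearMap.ext fun v => ?_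
        refine E.injective (Subtype.ext ?_)
        simp [cj_one]
      map_mul' := fun g h => by
        refine LinearMap.ext fun v => ?_
        refine E.injective (Subtype.ext ?_)
        simp [map_mul] }
  have hσ : ∀ g v, ((E (σ g v)) : Mat) = cj ρ g (E v : Mat) := fun g v => by simp [σ]
  obtain ⟨ψ, hψ⟩ := exists_projHom h2 σ fun g u v => by rw [← hform, hσ, hσ, trace_cj, hform]
  refine ⟨ψ, fun h => ?_⟩
  rcases hψ x h with h1 | h1
  · refine ha0 ?_
    have : A wY = 0 := by
      obtain ⟨v, hv⟩ := E.surjective ⟨wY, hwY⟩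
      have h3 := hσ x v
      rw [h1, Module.End.one_apply, hv] at h3
      rw [hA, LinearMap.sub_apply, Module.End.one_apply, ← h3, sub_self]
    rw [ha, this, map_zero]
  · have hodd : Odd p := hp.odd_of_ne_two (by omega)
    have h3 : σ x ^ p = 1 := by rw [← map_pow, D.pow_eq_one, map_one]
    obtain ⟨t, ht⟩ := hodd
    have hsq : σ x ^ 2 = 1 := LinearMap.ext fun v => by
      rw [h1, pow_two, Module.End.mul_apply]
      simp
    rw [ht, pow_succ, pow_mul, hsq, one_pow, one_mul, h1] at h3
    have h4 := congrFun (LinearMap.congr_fun h3 (fun _ => 1)) 0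
    simp at h4
    exact h2 (by linear_combination -h4)

end CfsgLib.Char.HalfDegree
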