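import Cfsg.Agent.Lib.Char.HalfDegree.SingleBlock
import Cfsg.Agent.Lib.Block.IntegralForm

/-!
# An irreducible representation modulo `p`

A faithful complex representation gives, when the group is generated by the conjugates of an
element `x` of order `p` in its derived group, an irreducible representation in characteristic `p`
of no larger dimension in which `x` acts nontrivially.
-/

set_option autoImplicit false
set_option linter.unusedSectionVars false

namespace CfsgLib.Char.HalfDegree

open Matrix

universe u v

variable {k : Type u} [Field k] {L : Type v} [Group L] {x : L}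

theorem exists_irred_aux (hcomm : x ∈ commutator L) (hgen : Subgroup.normalClosure {x} = ⊤) :
    ∀ (n : ℕ) {V : Type u} [AddCommGroup V] [Module k V] [FiniteDimensional k V] (σ : L →* Module.End k V),
      Module.finrank k V = n → σ x ≠ 1 →
      ∃ (c : ℕ) (ρ : L →* Matrix (Fin (c + 1)) (Fin (c + 1)) k), c + 1 ≤ n ∧ Irred ρ ∧ ρ x ≠ 1 := by
  intro n
  induction n using Nat.strong_induction_on with
  | _ n ih =>
    intro V _ _ _ σ hn hx
    by_cases hirr : ∀ U : Submodule k V, (∀ g, ∀ v ∈ U, σ g v ∈ U) → U = ⊥ ∨ U = ⊤
    · obtain ⟨c, rfl⟩ : ∃ c, n = c + 1 := ⟨n - 1, by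
        have : n ≠ 0 := fun h => hx (by
          subst h
          haveI := Module.finrank_zero_iff.1 hn
          exact LinearMap.ext fun v => Subsingleton.elim _ _)
        omega⟩
      let b := Module.finBasisOfFinrankEq k V hn
      let E : Module.End k V ≃ₐ[k] Matrix (Fin (c + 1)) (Fin (c + 1)) k := LinearMap.toMatrixAlgEquiv b
      refine ⟨c, E.toMonoidHom.comp σ, le_rfl, fun U hU => ?_, fun h => hx (E.injective (h.trans (map_one E).symm))⟩
      have hrep : ∀ g w, b.equivFun (σ g w) = E (σ g) *ᵥ b.equivFun w := fun g w => by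
        simp only [E, Module.Basis.equivFun_apply]
        exact (LinearMap.toMatrix_mulVec_repr b b (σ g) w).symm
      rcases hirr (U.comap b.equivFun.toLinearMap) (fun g w hw => by
          show b.equivFun (σ g w) ∈ U
          rw [hrep]
          exact hU g _ hw) with h | h
      · exact Or.inl (Submodule.comap_injective_of_surjective b.equivFun.surjective (h.trans (by
          rw [Submodule.comap_bot, LinearMap.ker_eq_bot.2 b.equivFun.injective])))
      · exact Or.inr (Submodule.comap_injective_of_surjective b.equivFun.surjective (h.trans (Submodule.comap_top _).symm))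
    · push Not at hirr
      obtain ⟨U, hU, hU1, hU2⟩ := hirr
      let τ₁ : L →* Module.End k U :=
        { toFun := fun g => (σ g).restrict (hU g)
          map_one' := LinearMap.ext fun v => Subtype.ext (by simp)
          map_mul' := fun a b => LinearMap.ext fun v => Subtype.ext (by simp) }
      let τ₂ : L →* Module.End k (V ⧸ U) :=
        { toFun := fun g => U.mapQ U (σ g) (hU g)
          map_one' := Submodule.linearMap_qext _ (LinearMap.ext fun v => by simp)
          map_mul' := fun a b => Submodule.linearMap_qext _ (LinearMap.ext fun v => by simp) }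
      have hlt : Module.finrank k U < n := hn ▸ Submodule.finrank_lt hU2
      have hlt' : Module.finrank k (V ⧸ U) < n := by
        have := Submodule.finrank_quotient_add_finrank U
        have h0 : 0 < Module.finrank k U := Nat.pos_of_ne_zero fun h => hU1 (Submodule.finrank_eq_zero.1 h)
        omega
      by_cases h1 : τ₁ x = 1
      swap
      · obtain ⟨c, ρ, h, h', h''⟩ := ih _ hlt τ₁ rfl h1
        exact ⟨c, ρ, by omega, h', h''⟩
      by_cases h2 : τ₂ x = 1
      swap
      · obtain ⟨c, ρ, h, h', h''⟩ := ih _ hlt' τ₂ rfl h2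
        exact ⟨c, ρ, by omega, h', h''⟩
      exfalso
      have htop : ∀ g : L, τ₁ g = 1 ∧ τ₂ g = 1 := by
        have hle : (⊤ : Subgroup L) ≤ τ₁.ker ⊓ τ₂.ker := hgen ▸ Subgroup.normalClosure_le_normal
          (Set.singleton_subset_iff.2 (show x ∈ τ₁.ker ⊓ τ₂.ker from ⟨h1, h2⟩))
        exact fun g => hle (Subgroup.mem_top g)
      have hfix : ∀ g, ∀ u ∈ U, σ g u = u := fun g u hu =>
        congrArg Subtype.val (LinearMap.congr_fun (htop g).1 ⟨u, hu⟩)
      have hsub : ∀ g v, σ g v - v ∈ U := fun g v => by
        rw [← Submodule.Quotient.eq]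
        exact LinearMap.congr_fun (htop g).2 (Submodule.Quotient.mk v)
      have hcom : ∀ a b, σ (a * b) = σ (b * a) := fun a b => LinearMap.ext fun v => by
        have ea : σ a (σ b v) = σ a v + (σ b v - v) := by
          conv_lhs => rw [show σ b v = v + (σ b v - v) by abel, map_add, hfix a _ (hsub b v)]
        have eb : σ b (σ a v) = σ b v + (σ a v - v) := by
          conv_lhs => rw [show σ a v = v + (σ a v - v) by abel, map_add, hfix b _ (hsub a v)]
        rw [map_mul, map_mul, Module.End.mul_apply, Module.End.mul_apply, ea, eb]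
        abel
      refine hx ((show commutator L ≤ σ.ker from ?_) hcomm)
      rw [commutator_def, Subgroup.commutator_le]
      intro a _ b _
      rw [MonoidHom.mem_ker, commutatorElement_def, mul_assoc (a * b), ← _root_.mul_inv_rev, map_mul, hcom a b,
        ← map_mul, mul_inv_cancel, map_one]

/-- Reduction of a faithful complex representation. -/
theorem exists_modp {p : ℕ} [hp : Fact p.Prime] {L : Type v} [Group L] [Finite L] {x : L} (D : LocData p x)
    (hcomm : x ∈ commutator L) (hgen : Subgroup.normalClosure {x} = ⊤) (hnp : Nat.card L ≠ p) {e : ℕ}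
    (ρ : Representation ℂ L (Fin e → ℂ)) (hρ : ∀ g, ρ.character g = ρ.character 1 → g = 1) :
    ∃ (k : Type) (_ : Field k) (_ : IsAlgClosed k) (_ : CharP k p) (c : ℕ)
      (τ : L →* Matrix (Fin (c + 1)) (Fin (c + 1)) k), c + 1 ≤ e ∧ Irred τ ∧ τ x ≠ 1 := by
  classical
  obtain ⟨A, hA⟩ := CfsgLib.Block.exists_valuationSubring hp.out
  obtain ⟨σ, hσ⟩ := CfsgLib.Block.exists_integral_form A ρ
  set k₀ := IsLocalRing.ResidueField A with hk₀
  set k := AlgebraicClosure k₀ with hk
  haveI : CharP k p := charP_of_injective_algebraMap (algebraMap k₀ k).injective p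
  let φ : A →+* k := (algebraMap k₀ k).comp (IsLocalRing.residue A)
  let r : L →* Matrix (Fin e) (Fin e) k := φ.mapMatrix.toMonoidHom.comp σ
  have hr : r x ≠ 1 := by
    intro h
    have hall : ∀ g, r g = 1 := by
      have hle : (⊤ : Subgroup L) ≤ r.ker :=
        hgen ▸ Subgroup.normalClosure_le_normal (Set.singleton_subset_iff.2 (show x ∈ r.ker from h))
      exact fun g => hle (Subgroup.mem_top g)
    obtain ⟨q, hq, hqd, hqp⟩ : ∃ q : ℕ, q.Prime ∧ q ∣ Nat.card L ∧ q ≠ p := by
      by_contra hc
      push Not at hc
      have hd : p ∣ Nat.card L := D.order ▸ orderOf_dvd_natCard x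
      refine hnp ?_
      obtain ⟨a, ha⟩ := hd
      by_cases ha1 : a = 1
      · rw [ha, ha1, mul_one]
      · exfalso
        obtain ⟨q, hq, hqa⟩ := Nat.exists_prime_and_dvd ha1
        have := hc q hq (ha ▸ hqa.mul_left p)
        subst this
        exact D.sq (ha ▸ (pow_two q).symm ▸ Nat.mul_dvd_mul_left q hqa)
    haveI := Fact.mk hq
    obtain ⟨y, hy⟩ := exists_prime_orderOf_dvd_card' q hqd
    have hy1 : y ≠ 1 := fun h1 => hq.ne_one (by rw [← hy, h1, orderOf_one])
    refine hy1 (hρ y ?_)
    set S : Matrix (Fin e) (Fin e) A := ∑ i ∈ Finset.range q, σ y ^ i with hS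
    have hzero : (σ y - 1) * S = 0 := by
      rw [hS, mul_geom_sum, ← map_pow, ← hy, pow_orderOf_eq_one, map_one, sub_self]
    have hSu : IsUnit S := by
      rw [Matrix.isUnit_iff_isUnit_det]
      by_contra hnu
      have hres : φ S.det = 0 := by
        show algebraMap k₀ k (IsLocalRing.residue A S.det) = 0
        rw [(IsLocalRing.residue_eq_zero_iff _).2 ((IsLocalRing.mem_maximalIdeal _).2 hnu), map_zero]
      rw [RingHom.map_det, hS, map_sum] at hres
      have hry : ∀ i, φ.mapMatrix (σ y ^ i) = 1 := fun i => by
        rw [← map_pow]; exact hall _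
      simp only [hry, Finset.sum_const, Finset.card_range] at hres
      rw [nsmul_eq_mul, mul_one, ← Matrix.diagonal_natCast, Matrix.det_diagonal, Finset.prod_const] at hres
      have h0 : (q : k) = 0 := eq_zero_of_pow_eq_zero hres
      rw [CharP.cast_eq_zero_iff k p] at h0
      exact hqp ((Nat.prime_dvd_prime_iff_eq hp.out hq).1 h0).symm
    have h1 : σ y = 1 := sub_eq_zero.1 (hSu.mul_left_eq_zero.1 hzero)
    rw [← hσ, ← hσ, h1, map_one]
  let τ : L →* Module.End k (Fin e → k) :=
    (Matrix.toLinAlgEquiv' (R := k) (n := Fin e)).toMonoidHom.comp r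
  obtain ⟨c, ρ', h1, h2, h3⟩ := exists_irred_aux hcomm hgen e τ (Module.finrank_fin_fun k) fun h =>
    hr (Matrix.toLinAlgEquiv'.injective (h.trans (map_one _).symm))
  exact ⟨k, inferInstance, inferInstance, inferInstance, c, ρ', h1, h2, h3⟩

end CfsgLib.Char.HalfDegree
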