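import Cfsg.Agent.Lib.Char.HalfDegree.Local
import Cfsg.Agent.Lib.Char.HalfDegree.Form
import Cfsg.Agent.Lib.Char.HalfDegree.ModP
import Cfsg.Agent.Lib.Perm.Dickson.Bridge
import Cfsg.Agent.Lib.Perm.Dickson.Classify

/-!
# The group generated by the elements of order `p` maps onto `PSL(2, p)`
-/

set_option autoImplicit false
set_option linter.unusedSectionVars false

namespace CfsgLib.Char.HalfDegree

open CfsgLib.Perm.Dickson
open scoped commutatorElement

universe v

variable {p : ℕ} [hp : Fact p.Prime] {L : Type v} [Group L] [Finite L] {x : L}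

/-- All conjugates of `x` die in a commutative quotient when `x` is in the derived group. -/
theorem eq_one_of_hom {A : Type*} [Group A] (f : L →* A) (hA : ∀ a b : L, f a * f b = f b * f a)
    (hx : x ∈ commutator L) : f x = 1 := by
  have h : commutator L ≤ f.ker := by
    rw [commutator_def, Subgroup.commutator_le]
    intro a _ b _
    rw [MonoidHom.mem_ker, commutatorElement_def, map_mul, map_mul, map_mul, hA a b, map_inv, map_inv,
      mul_inv_cancel_right, mul_inv_cancel]
  exact h hx

theorem exists_surj (D : LocData p x) (h5 : 5 ≤ p) (hgen : Subgroup.normalClosure {x} = ⊤)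
    (hcomm : x ∈ commutator L) {k : Type*} [Field k] [IsAlgClosed k] [CharP k p]
    (ψ : L →* G2 k) (hψ : ψ x ≠ 1) :
    ∃ φ : L →* S2P (ZMod p), Function.Surjective φ ∧ φ.ker = ψ.ker := by
  classical
  set R := ψ.range with hR
  haveI : Finite R := Finite.of_surjective ψ.rangeRestrict ψ.rangeRestrict_surjective
  have hRdvd : Nat.card R ∣ Nat.card L := Subgroup.card_range_dvd ψ
  set xb : R := ψ.rangeRestrict x with hxb
  have hxb1 : xb ≠ 1 := fun h => hψ (congrArg Subtype.val h)
  have hxbord : orderOf xb = p := orderOf_eq_prime (by rw [← map_pow, D.pow_eq_one, map_one]) hxb1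
  have hpR : p ∣ Nat.card R := hxbord ▸ orderOf_dvd_natCard xb
  cases classify (p := p) (G := R) (fun g _ => exists_fixed_of_isAlgClosed (g : G2 k)) with
  | fix pt h =>
    exfalso
    obtain ⟨σ, hσ⟩ := exists_move_ip pt
    have hmem : ∀ g : R, σ * (g : G2 k) * σ⁻¹ ∈ MulAction.stabilizer (G2 k) (ip : P2 k) := fun g => by
      rw [MulAction.mem_stabilizer_iff, ← hσ, mul_smul, inv_smul_smul, mul_smul,
        show (g : G2 k) • pt = pt from h g]
    let f : L →* kˣ := (chi.comp (MonoidHom.codRestrict ((MulAut.conj σ).toMonoidHom.comp R.subtype) _ hmem)).comp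
      ψ.rangeRestrict
    have hf : ∀ g, f g = 1 := by
      have hle : (⊤ : Subgroup L) ≤ f.ker := hgen ▸ Subgroup.normalClosure_le_normal
        (Set.singleton_subset_iff.2 (show x ∈ f.ker from eq_one_of_hom f (fun a b => mul_comm _ _) hcomm))
      exact fun g => hle (Subgroup.mem_top g)
    have htr : ∀ g, ∃ t, σ * ψ g * σ⁻¹ = tr t := fun g => eq_tr_of_chi (hf g)
    refine hψ (eq_one_of_hom ψ (fun a b => ?_) hcomm)
    obtain ⟨s, hs⟩ := htr a
    obtain ⟨t, ht⟩ := htr b
    refine mul_left_cancel (a := σ) (mul_right_cancel (b := σ⁻¹) ?_)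
    calc σ * (ψ a * ψ b) * σ⁻¹ = (σ * ψ a * σ⁻¹) * (σ * ψ b * σ⁻¹) := by group
      _ = (σ * ψ b * σ⁻¹) * (σ * ψ a * σ⁻¹) := by rw [hs, ht, tr_mul, tr_mul, add_comm]
      _ = σ * (ψ b * ψ a) * σ⁻¹ := by group
  | dihedral C hC h2 hpC a b hab ha hb hinv =>
    exfalso
    rw [← h2] at hpR
    rcases (hp.out.dvd_mul).1 hpR with h | h
    · have := Nat.le_of_dvd two_pos h; omega
    · exact hpC h
  | a4 hN h2 h3 h =>
    exfalso
    rw [hN, show (12 : ℕ) = 2 * 2 * 3 by norm_num, hp.out.dvd_mul, hp.out.dvd_mul] at hpR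
    rcases hpR with (h | h) | h <;> have := Nat.le_of_dvd (by norm_num) h <;> omega
  | s4 hN h2 h3 h =>
    exfalso
    rw [hN, show (24 : ℕ) = 2 * 2 * 2 * 3 by norm_num, hp.out.dvd_mul, hp.out.dvd_mul, hp.out.dvd_mul] at hpR
    rcases hpR with ((h | h) | h) | h <;> have := Nat.le_of_dvd (by norm_num) h <;> omega
  | a5 hN h2 h5' h =>
    exfalso
    rw [hN, show (60 : ℕ) = 2 * 2 * 3 * 5 by norm_num, hp.out.dvd_mul, hp.out.dvd_mul, hp.out.dvd_mul] at hpR
    rcases hpR with ((h | h) | h) | h <;> have := Nat.le_of_dvd (by norm_num) h <;> omega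
  | subfield hs =>
    obtain ⟨σ, F0, hfin, h3, hcase⟩ := hs
    haveI : Finite F0 := hfin
    haveI : CharP F0 p := (RingHom.charP_iff_charP F0.subtype p).2 inferInstance
    haveI := finite_G2 (F := F0)
    obtain ⟨n, hn, hcard⟩ := card_eq_pow (F := F0) p
    have hcR : Nat.card (conjG σ R) = Nat.card R := (Nat.card_congr (conjEquiv σ R).toEquiv).symm
    have hmemtr : ∀ t : F0, tr (F0.subtype t) ∈ conjG σ R := fun t => by
      rcases hcase with h | ⟨-, h⟩
      · exact h ▸ ⟨tr t, mapG_tr _ t⟩
      · exact h ▸ ⟨tr t, tr_mem_psl t, mapG_tr _ t⟩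
    let τ : Multiplicative F0 →* conjG σ R :=
      MonoidHom.mk' (fun t => ⟨tr (F0.subtype t.toAdd), hmemtr _⟩) fun a b => Subtype.ext (by
        show tr (F0.subtype (a * b).toAdd) = tr (F0.subtype a.toAdd) * tr (F0.subtype b.toAdd)
        rw [tr_mul, toAdd_mul, map_add])
    have hτ : Function.Injective τ := fun a b h =>
      Multiplicative.toAdd.injective (Subtype.ext (tr_injective (congrArg Subtype.val h)))
    have hn1 : n = 1 := by
      by_contra hne
      have h1 := Subgroup.card_dvd_of_injective τ hτ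
      rw [Nat.card_congr Multiplicative.toAdd, hcard, hcR] at h1
      exact D.sq ((Nat.pow_dvd_pow p (show 2 ≤ n by omega)).trans (h1.trans hRdvd))
    rw [hn1, pow_one] at hcard
    have hodd : Odd (Nat.card F0) := hcard ▸ hp.out.odd_of_ne_two (by omega)
    have key : ∀ (_h : conjG σ R = (psl F0).map (mapG F0.subtype)),
        ∃ φ : L →* S2P (ZMod p), Function.Surjective φ ∧ φ.ker = ψ.ker := by
      intro h
      haveI : Fintype F0 := Fintype.ofFinite _
      let i : F0 ≃+* ZMod p := FiniteField.ringEquivOfCardEq (by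
        rw [← Nat.card_eq_fintype_card, hcard, ZMod.card])
      let e : R ≃* S2P (ZMod p) :=
        (((conjEquiv σ R).trans (MulEquiv.subgroupCongr h)).trans
          ((psl F0).equivMapOfInjective _ (mapG_injective F0.subtype)).symm).trans
          ((pslEquiv F0).symm.trans (s2Congr i))
      refine ⟨e.toMonoidHom.comp ψ.rangeRestrict, e.surjective.comp ψ.rangeRestrict_surjective, ?_⟩
      ext g
      simp only [MonoidHom.mem_ker, MonoidHom.comp_apply, MulEquiv.coe_toMonoidHom, map_eq_one_iff _ e.injective]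
      exact ⟨fun h => congrArg Subtype.val h, fun h => Subtype.ext h⟩
    rcases hcase with h | ⟨-, h⟩
    · exfalso
      -- the full projective group has a quotient of order two
      let E : R ≃* G2 F0 := ((conjEquiv σ R).trans (MulEquiv.subgroupCongr h)).trans
        (MonoidHom.ofInjective (mapG_injective F0.subtype)).symm
      let f : L →* G2 F0 ⧸ psl F0 := ((QuotientGroup.mk' (psl F0)).comp E.toMonoidHom).comp ψ.rangeRestrict
      have hidx : (psl F0).index = 2 := by rw [index_psl_eq, gcd_odd hodd]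
      have hcardq : Nat.card (G2 F0 ⧸ psl F0) = 2 := hidx
      have hfx : f x = 1 := by
        rw [← orderOf_eq_one_iff]
        have h1 : orderOf (f x) ∣ p := orderOf_dvd_of_pow_eq_one (by rw [← map_pow, D.pow_eq_one, map_one])
        have h2 : orderOf (f x) ∣ 2 := (orderOf_dvd_natCard (f x)).trans (dvd_of_eq hcardq)
        rcases (Nat.dvd_prime Nat.prime_two).1 h2 with h' | h'
        · exact h'
        · rw [h'] at h1
          exact absurd ((Nat.prime_dvd_prime_iff_eq Nat.prime_two hp.out).1 h1) (by omega)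
      have hle : (⊤ : Subgroup L) ≤ f.ker :=
        hgen ▸ Subgroup.normalClosure_le_normal (Set.singleton_subset_iff.2 (show x ∈ f.ker from hfx))
      have hsurj : Function.Surjective f :=
        ((QuotientGroup.mk'_surjective _).comp E.surjective).comp ψ.rangeRestrict_surjective
      have hsub : Subsingleton (G2 F0 ⧸ psl F0) := ⟨fun a b => by
        obtain ⟨a', rfl⟩ := hsurj a
        obtain ⟨b', rfl⟩ := hsurj b
        rw [show f a' = 1 from hle (Subgroup.mem_top a'), show f b' = 1 from hle (Subgroup.mem_top b')]⟩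
      have := (Nat.card_eq_one_iff_unique).2 ⟨hsub, ⟨1⟩⟩
      omega
    · exact key h

end CfsgLib.Char.HalfDegree
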