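import Mathlib

/-!
# Cyclic nilpotent matrices

A nilpotent matrix with nonzero highest possible power is cyclic; otherwise there is an idempotent
commuting with it with trace strictly between `0` and the size.
-/

set_option autoImplicit false
set_option linter.unusedSectionVars false

namespace CfsgLib.Char.HalfDegree

open Matrix Finset

variable {k : Type*} [Field k] {c : ℕ}

local notation "Mat" => Matrix (Fin (c + 1)) (Fin (c + 1)) k

theorem li_krylov {N : Mat} {v : Fin (c + 1) → k} {m : ℕ} (h1 : (N ^ (m + 1)) *ᵥ v = 0)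
    (h0 : (N ^ m) *ᵥ v ≠ 0) : LinearIndependent k fun i : Fin (m + 1) => (N ^ (i : ℕ)) *ᵥ v := by
  rw [Fintype.linearIndependent_iff]
  intro a ha
  have hz : ∀ n, m < n → (N ^ n) *ᵥ v = 0 := fun n hn => by
    obtain ⟨t, rfl⟩ := Nat.exists_eq_add_of_le (Nat.succ_le_of_lt hn)
    rw [add_comm _ t, pow_add, ← mulVec_mulVec, h1, mulVec_zero]
  intro i
  induction hn : (i : ℕ) using Nat.strong_induction_on generalizing i with
  | _ n ih =>
    subst hn
    have h := congrArg (fun u => (N ^ (m - i)) *ᵥ u) ha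
    simp only [mulVec_sum, mulVec_smul, mulVec_zero, mulVec_mulVec, ← pow_add] at h
    rw [Finset.sum_eq_single i] at h
    · rw [show m - (i : ℕ) + i = m by omega] at h
      exact (smul_eq_zero.1 h).resolve_right h0
    · intro b _ hb
      rcases lt_or_gt_of_ne (fun e => hb (Fin.ext e) : (b : ℕ) ≠ i) with hlt | hgt
      · rw [ih b hlt b rfl, zero_smul]
      · rw [hz _ (by omega), smul_zero]
    · simp

theorem pow_eq_zero_of_nilpotent {N : Mat} (h : IsNilpotent N) : N ^ (c + 1) = 0 := by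
  classical
  by_contra hne
  obtain ⟨n, hn⟩ := h
  obtain ⟨v, hv⟩ : ∃ v, (N ^ (c + 1)) *ᵥ v ≠ 0 := by
    by_contra hall
    push Not at hall
    exact hne (Matrix.ext_of_mulVec_single fun i => by rw [hall, zero_mulVec])
  have hex : ∃ m, (N ^ m) *ᵥ v = 0 := ⟨n, by rw [hn, zero_mulVec]⟩
  have hgt : c + 1 < Nat.find hex := by
    by_contra hle
    push Not at hle
    obtain ⟨t, ht⟩ := Nat.exists_eq_add_of_le hle
    exact hv (by rw [show N ^ (c + 1) = N ^ t * N ^ Nat.find hex from (congrArg (N ^ ·) (ht.trans (add_comm _ _))).trans (pow_add _ _ _), ← mulVec_mulVec, Nat.find_spec hex, mulVec_zero])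
  obtain ⟨m, hm⟩ := Nat.exists_eq_add_of_le' (show 1 ≤ Nat.find hex by omega)
  have hli := li_krylov (hm ▸ Nat.find_spec hex) (Nat.find_min hex (show m < Nat.find hex by omega))
  have := hli.fintype_card_le_finrank
  rw [Fintype.card_fin, Module.finrank_fin_fun] at this
  omega

/-- The matrix with columns `N ^ i v`. -/
def kry (N : Mat) (v : Fin (c + 1) → k) : Mat := Matrix.of fun j i => ((N ^ (i : ℕ)) *ᵥ v) j

/-- The shift. -/
def shiftMat : Mat := Matrix.of fun j i => if (j : ℕ) = i + 1 then 1 else 0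

theorem kry_mulVec_single (N : Mat) (v : Fin (c + 1) → k) (i : Fin (c + 1)) :
    kry N v *ᵥ Pi.single i 1 = (N ^ (i : ℕ)) *ᵥ v := by
  rw [mulVec_single_one]; rfl

theorem isUnit_kry {N : Mat} {v : Fin (c + 1) → k} (hN : N ^ (c + 1) = 0) (hv : (N ^ c) *ᵥ v ≠ 0) :
    IsUnit (kry N v) := by
  rw [← Matrix.linearIndependent_cols_iff_isUnit]
  exact li_krylov (by rw [hN, zero_mulVec]) hv

theorem shift_mulVec_single (i : Fin (c + 1)) :
    (shiftMat : Mat) *ᵥ Pi.single i 1 = if h : (i : ℕ) + 1 < c + 1 then Pi.single ⟨i + 1, h⟩ 1 else 0 := by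
  rw [mulVec_single_one]
  funext j
  simp only [shiftMat, col_apply, of_apply]
  split_ifs with h1 h2 h2
  · rw [show j = ⟨i + 1, h2⟩ from Fin.ext h1, Pi.single_eq_same]
  · exact absurd (h1 ▸ j.2) h2
  · rw [Pi.single_eq_of_ne fun e => h1 (congrArg Fin.val e)]
  · rfl

theorem mul_kry {N : Mat} (v : Fin (c + 1) → k) (hN : N ^ (c + 1) = 0) :
    N * kry N v = kry N v * shiftMat := by
  refine Matrix.ext_of_mulVec_single fun i => ?_
  rw [← mulVec_mulVec, ← mulVec_mulVec, kry_mulVec_single, shift_mulVec_single, mulVec_mulVec, ← pow_succ']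
  split_ifs with h
  · rw [kry_mulVec_single]
  · rw [mulVec_zero, show (i : ℕ) + 1 = c + 1 by omega, hN, zero_mulVec]

theorem eq_of_commute {N X Y : Mat} {v : Fin (c + 1) → k} (hN : N ^ (c + 1) = 0)
    (hv : (N ^ c) *ᵥ v ≠ 0) (hX : Commute X N) (hY : Commute Y N) (h : X *ᵥ v = Y *ᵥ v) : X = Y := by
  refine (isUnit_kry hN hv).mul_right_cancel (Matrix.ext_of_mulVec_single fun i => ?_)
  rw [← mulVec_mulVec, ← mulVec_mulVec, kry_mulVec_single, mulVec_mulVec, mulVec_mulVec,
    (hX.pow_right _).eq, (hY.pow_right _).eq, ← mulVec_mulVec, ← mulVec_mulVec, h]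

theorem commutant_eq {N X : Mat} {v : Fin (c + 1) → k} (hN : N ^ (c + 1) = 0)
    (hv : (N ^ c) *ᵥ v ≠ 0) (hX : Commute X N) :
    ∃ (a : k) (q : Mat), X = a • 1 + N * q ∧ Commute N q := by
  obtain ⟨u, hu⟩ := isUnit_kry hN hv
  set w : Fin (c + 1) → k := (↑u⁻¹ : Mat) *ᵥ (X *ᵥ v) with hw
  have hq : Commute N (∑ i : Fin c, w i.succ • N ^ (i : ℕ)) :=
    Commute.sum_right _ _ _ fun i _ => (((Commute.refl N).pow_right _)).smul_right _
  refine ⟨w 0, _, eq_of_commute hN hv hX (((Commute.one_left N).smul_left _).add_left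
    ((Commute.refl N).mul_left hq.symm)) ?_, hq⟩
  have : X *ᵥ v = kry N v *ᵥ w := by rw [hw, ← hu, mulVec_mulVec, Units.mul_inv, one_mulVec]
  rw [this, add_mulVec, smul_mulVec, one_mulVec, Finset.mul_sum, sum_mulVec]
  have h2 : kry N v *ᵥ w = ∑ i : Fin (c + 1), w i • ((N ^ (i : ℕ)) *ᵥ v) := by
    funext j
    simp [kry, mulVec, dotProduct, Finset.sum_apply, mul_comm]
  rw [h2, Fin.sum_univ_succ, Fin.val_zero, pow_zero, one_mulVec]
  refine congrArg _ (Finset.sum_congr rfl fun i _ => ?_)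
  rw [mul_smul_comm, smul_mulVec, Fin.val_succ, pow_succ']

theorem exists_conj {N N' : Mat} {v v' : Fin (c + 1) → k} (hN : N ^ (c + 1) = 0)
    (hv : (N ^ c) *ᵥ v ≠ 0) (hN' : N' ^ (c + 1) = 0) (hv' : (N' ^ c) *ᵥ v' ≠ 0) :
    ∃ Φ : Matˣ, (Φ : Mat) * N' = N * Φ ∧ (Φ : Mat) *ᵥ v' = v := by
  obtain ⟨u, hu⟩ := isUnit_kry hN hv
  obtain ⟨u', hu'⟩ := isUnit_kry hN' hv'
  have h1 := mul_kry v hN
  have h2 := mul_kry v' hN'
  rw [← hu] at h1
  rw [← hu'] at h2
  refine ⟨u * u'⁻¹, ?_, ?_⟩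
  · rw [Units.val_mul, ← mul_assoc N, h1, mul_assoc, mul_assoc]
    congr 1
    rw [Units.inv_mul_eq_iff_eq_mul, ← mul_assoc, ← h2, mul_assoc, Units.mul_inv, mul_one]
  · have h3 : (u' : Mat) *ᵥ Pi.single 0 1 = v' := by
      rw [hu', kry_mulVec_single, Fin.val_zero, pow_zero, one_mulVec]
    have h4 : (u : Mat) *ᵥ Pi.single 0 1 = v := by
      rw [hu, kry_mulVec_single, Fin.val_zero, pow_zero, one_mulVec]
    rw [Units.val_mul, ← h3, ← mulVec_mulVec, mulVec_mulVec (Pi.single 0 1) _ (u' : Mat), Units.inv_mul,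
      one_mulVec, h4]

/-- A nilpotent matrix that is not cyclic commutes with an idempotent of intermediate trace. -/
theorem exists_idem {N : Mat} (hN : N ^ c = 0) (hc : c ≠ 0) :
    ∃ (P : Mat) (m : ℕ), 0 < m ∧ m ≤ c ∧ P * P = P ∧ Commute P N ∧ P.trace = m := by
  classical
  have hex : ∃ m, N ^ (m + 1) = 0 := ⟨c - 1, by rwa [Nat.sub_add_cancel (Nat.one_le_iff_ne_zero.2 hc)]⟩
  set m := Nat.find hex with hm
  have hm1 : N ^ (m + 1) = 0 := Nat.find_spec hex
  have hmc : m + 1 ≤ c := by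
    have h1 : m ≤ c - 1 := Nat.find_min' hex (by rwa [Nat.sub_add_cancel (Nat.one_le_iff_ne_zero.2 hc)])
    omega
  have hm0 : N ^ m ≠ 0 := by
    intro h
    rcases Nat.eq_zero_or_pos m with e | e
    · rw [e, pow_zero] at h
      exact one_ne_zero h
    · exact Nat.find_min hex (show m - 1 < m by omega) (by rwa [Nat.sub_add_cancel e])
  obtain ⟨v, hv⟩ : ∃ v, (N ^ m) *ᵥ v ≠ 0 := by
    by_contra hall
    push Not at hall
    exact hm0 (Matrix.ext_of_mulVec_single fun i => by rw [hall, zero_mulVec])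
  have hli := li_krylov (by rw [hm1, zero_mulVec]) hv
  obtain ⟨g, hg⟩ := LinearMap.exists_leftInverse_of_injective
    (Fintype.linearCombination k fun i : Fin (m + 1) => (N ^ (i : ℕ)) *ᵥ v)
    (LinearMap.ker_eq_bot.2 hli.fintypeLinearCombination_injective)
  set f : (Fin (c + 1) → k) →ₗ[k] k := (LinearMap.proj (Fin.last m)).comp g with hf
  set w : Fin (c + 1) → k := fun i => f (Pi.single i 1) with hw
  have hwu : ∀ u, w ⬝ᵥ u = f u := fun u => by
    conv_rhs => rw [pi_eq_sum_univ' u]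
    simp [dotProduct, hw, map_sum, mul_comm]
  have hfd : ∀ n, f ((N ^ n) *ᵥ v) = if n = m then 1 else 0 := by
    intro n
    rcases lt_or_ge n (m + 1) with h | h
    · have e := congrArg (fun L => L (Pi.single ⟨n, h⟩ 1)) hg
      simp only [LinearMap.comp_apply, Fintype.linearCombination_apply_single, one_smul, LinearMap.id_apply] at e
      rw [hf, LinearMap.comp_apply, e, LinearMap.proj_apply, Pi.single_apply]
      simp [Fin.ext_iff, eq_comm]
    · obtain ⟨t, rfl⟩ := Nat.exists_eq_add_of_le h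
      rw [if_neg (by omega), add_comm _ t, pow_add, ← mulVec_mulVec, hm1, zero_mulVec, mulVec_zero, map_zero]
  set P : Mat := ∑ j ∈ range (m + 1), N ^ j * vecMulVec v w * N ^ (m - j) with hP
  have hPu : ∀ u, P *ᵥ u = ∑ j ∈ range (m + 1), f ((N ^ (m - j)) *ᵥ u) • ((N ^ j) *ᵥ v) := fun u => by
    rw [hP, sum_mulVec]
    refine Finset.sum_congr rfl fun j _ => ?_
    rw [← mulVec_mulVec, ← mulVec_mulVec, vecMulVec_mulVec, hwu, op_smul_eq_smul, mulVec_smul]
  have hfix : ∀ i, i ≤ m → P *ᵥ ((N ^ i) *ᵥ v) = (N ^ i) *ᵥ v := fun i hi => by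
    rw [hPu, Finset.sum_eq_single i]
    · rw [mulVec_mulVec, ← pow_add, Nat.sub_add_cancel hi, hfd, if_pos rfl, one_smul]
    · intro b hb hbi
      rw [mem_range] at hb
      rw [mulVec_mulVec, ← pow_add, hfd, if_neg (by omega), zero_smul]
    · intro h; exact absurd (mem_range.2 (by omega)) h
  refine ⟨P, m + 1, Nat.succ_pos m, hmc, ?_, ?_, ?_⟩
  · refine Matrix.ext_of_mulVec_single fun i => ?_
    rw [← mulVec_mulVec, hPu (Pi.single i 1), mulVec_sum]
    refine Finset.sum_congr rfl fun j hj => ?_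
    rw [mulVec_smul, hfix j (by rw [mem_range] at hj; omega)]
  · show P * N = N * P
    rw [hP, Finset.sum_mul, Finset.mul_sum, ← sub_eq_zero, ← Finset.sum_sub_distrib]
    have key : ∀ j ∈ range (m + 1), N ^ j * vecMulVec v w * N ^ (m - j) * N -
        N * (N ^ j * vecMulVec v w * N ^ (m - j)) =
        (fun j => N ^ j * vecMulVec v w * N ^ (m + 1 - j)) j -
        (fun j => N ^ j * vecMulVec v w * N ^ (m + 1 - j)) (j + 1) := by
      intro j hj
      rw [mem_range] at hj
      simp only []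
      rw [mul_assoc _ (N ^ (m - j)) N, ← pow_succ, show m - j + 1 = m + 1 - j by omega,
        show m + 1 - (j + 1) = m - j by omega, ← mul_assoc, ← mul_assoc, ← pow_succ']
    rw [Finset.sum_congr rfl key, Finset.sum_range_sub']
    simp [hm1]
  · rw [hP, trace_sum]
    have : ∀ j ∈ range (m + 1), (N ^ j * vecMulVec v w * N ^ (m - j)).trace = 1 := fun j hj => by
      rw [mem_range] at hj
      rw [trace_mul_cycle, ← pow_add, show m - j + j = m by omega, mul_vecMulVec, trace_vecMulVec,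
        dotProduct_comm, hwu, hfd, if_pos rfl]
    rw [Finset.sum_congr rfl this]
    simp

end CfsgLib.Char.HalfDegree
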