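import Cfsg.Agent.Lib.Char.HalfDegree.Setup
import Cfsg.Agent.Lib.Char.LinearSylowPSolvable

/-!
# A group generated by the conjugates of an element of order `p`
-/

set_option autoImplicit false
set_option linter.unusedSectionVars false

namespace CfsgLib.Char.HalfDegree

open Cfsg
open scoped commutatorElement

universe v

variable {p : ℕ} [hp : Fact p.Prime] {L : Type v} [Group L] [Finite L] {x : L}

theorem LocData.dvd (D : LocData p x) : p ∣ Nat.card L := D.order ▸ orderOf_dvd_natCard x

theorem LocData.card_sylow (D : LocData p x) (P : Sylow p L) : Nat.card P = p := by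
  have h : (Nat.card L).factorization p = 1 := by
    refine le_antisymm ?_ ?_
    · by_contra h
      exact D.sq ((Nat.pow_dvd_pow p (by omega : 2 ≤ (Nat.card L).factorization p)).trans
        (Nat.ordProj_dvd _ _))
    · exact hp.out.factorization_pos_of_dvd Nat.card_pos.ne' D.dvd
  rw [P.card_eq_multiplicity, h, pow_one]

/-- Subgroups of order `p` are conjugate. -/
theorem LocData.conj_zpowers (D : LocData p x) {y : L} (hy : orderOf y = p) :
    ∃ g : L, g * y * g⁻¹ ∈ Subgroup.zpowers x := by
  have hP : Nat.card (Subgroup.zpowers x) = p := by rw [Nat.card_zpowers, D.order]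
  have hQ : Nat.card (Subgroup.zpowers y) = p := by rw [Nat.card_zpowers, hy]
  have hm : (Nat.card L).factorization p = 1 := by
    have h1 := (default : Sylow p L).card_eq_multiplicity
    have h2 : Nat.card ((default : Sylow p L) : Subgroup L) = p := D.card_sylow default
    rw [h2] at h1
    exact (Nat.pow_eq_self_iff hp.out.one_lt).1 h1.symm
  let P : Sylow p L := Sylow.ofCard (Subgroup.zpowers x) (by rw [hP, hm, pow_one])
  let Q : Sylow p L := Sylow.ofCard (Subgroup.zpowers y) (by rw [hQ, hm, pow_one])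
  obtain ⟨g, hg⟩ := MulAction.exists_smul_eq L Q P
  refine ⟨g, ?_⟩
  have h : (g • Q : Sylow p L).toSubgroup = P.toSubgroup := by rw [hg]
  show g * y * g⁻¹ ∈ P.toSubgroup
  rw [← h, Sylow.coe_subgroup_smul, ← MulAut.conj_apply]
  exact Subgroup.smul_mem_pointwise_smul y (MulAut.conj g) Q.toSubgroup
    (show y ∈ (Sylow.ofCard (Subgroup.zpowers y) _ : Sylow p L).toSubgroup from Subgroup.mem_zpowers y)

/-- A normal subgroup of order divisible by `p` contains `x`. -/
theorem LocData.mem_of_dvd (D : LocData p x) (C : Subgroup L) [C.Normal] (h : p ∣ Nat.card C) : x ∈ C := by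
  obtain ⟨⟨y, hyC⟩, hy⟩ := exists_prime_orderOf_dvd_card' (G := C) p h
  rw [Subgroup.orderOf_mk] at hy
  obtain ⟨g, hg⟩ := D.conj_zpowers hy
  obtain ⟨i, hi⟩ := Subgroup.mem_zpowers_iff.1 hg
  have hord : orderOf (g * y * g⁻¹) = p := by rw [← MulAut.conj_apply, MulEquiv.orderOf_eq, hy]
  have hle : Subgroup.zpowers (g * y * g⁻¹) = Subgroup.zpowers x :=
    Subgroup.eq_of_le_of_card_ge (by rw [Subgroup.zpowers_le]; exact hg)
      (by rw [Nat.card_zpowers, Nat.card_zpowers, hord, D.order])
  exact Subgroup.zpowers_le.2 (Subgroup.Normal.conj_mem inferInstance y hyC g) (hle ▸ Subgroup.mem_zpowers x)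

variable {e : ℕ}

/-- A normal `p'`-subgroup is central. -/
theorem LocData.central (D : LocData p x) (hgen : Subgroup.normalClosure {x} = ⊤) {χ : L → ℂ}
    (hχ : IsCharacter L χ) (hfaith : ∀ g : L, χ g = χ 1 → g = 1) (he : χ 1 = e) (he2 : e + 1 < p)
    (C : Subgroup L) [C.Normal] (hC : ¬ p ∣ Nat.card C) : C ≤ Subgroup.center L := by
  classical
  set P := Subgroup.zpowers x with hP
  set M : Subgroup L := C ⊔ P with hM
  have hPc : Nat.card P = p := by rw [hP, Nat.card_zpowers, D.order]
  have hPM : P ≤ M := le_sup_right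
  have hCM : C ≤ M := le_sup_left
  have hcC : Nat.card (C.subgroupOf M) = Nat.card C := Nat.card_congr (Subgroup.subgroupOfEquivOfLe hCM).toEquiv
  haveI : (C.subgroupOf M).Normal := inferInstance
  have hdis : Disjoint C P := by
    rw [disjoint_iff]
    by_contra hne
    haveI : Fact (Nat.card P).Prime := ⟨hPc.symm ▸ hp.out⟩
    rcases (C.subgroupOf P).eq_bot_or_eq_top_of_prime_card with h | h
    · exact hne (disjoint_iff.1 (Subgroup.subgroupOf_eq_bot.1 h))
    · refine hC ?_
      rw [← hPc]
      exact Subgroup.card_dvd_of_le (Subgroup.subgroupOf_eq_top.1 h)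
  have hidx : (C.subgroupOf M).index = p := by
    have h1 : C.relIndex M = C.relIndex P := by rw [hM, sup_comm]; exact Subgroup.relIndex_sup_right P C
    rw [show (C.subgroupOf M).index = C.relIndex M from rfl, h1, ← Subgroup.inf_relIndex_right, disjoint_iff.1 hdis,
      Subgroup.relIndex_bot_left, hPc]
  have hsolv : IsPSolvable p M := by
    refine ⟨2, ![⊥, C.subgroupOf M, ⊤], rfl, rfl, ?_, ?_, ?_⟩
    · refine Fin.monotone_iff_le_succ.2 fun i => ?_
      fin_cases i
      · exact bot_le
      · exact le_top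
    · intro i
      fin_cases i
      · exact Subgroup.normal_bot
      · exact this
      · exact Subgroup.normal_top
    · intro i
      fin_cases i
      · right
        show ((⊥ : Subgroup M).relIndex (C.subgroupOf M)).Coprime p
        rw [Subgroup.relIndex_bot_left, hcC]
        exact (hp.out.coprime_iff_not_dvd.2 hC).symm
      · left
        refine ⟨1, ?_⟩
        show (C.subgroupOf M).relIndex ⊤ = p ^ 1
        rw [Subgroup.relIndex_top_right, hidx, pow_one]
  have hPsub : Nat.card (P.subgroupOf M) = p := by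
    rw [Nat.card_congr (Subgroup.subgroupOfEquivOfLe hPM).toEquiv, hPc]
  have hfac : (Nat.card M).factorization p = 1 := by
    refine le_antisymm ?_ (hp.out.factorization_pos_of_dvd Nat.card_pos.ne'
      (hPc ▸ Subgroup.card_dvd_of_le hPM))
    by_contra h
    exact D.sq ((Nat.pow_dvd_pow p (by omega : 2 ≤ (Nat.card M).factorization p)).trans
      ((Nat.ordProj_dvd _ _).trans (Subgroup.card_subgroup_dvd_card M)))
  let S : Sylow p M := Sylow.ofCard (P.subgroupOf M) (by rw [hPsub, hfac, pow_one])
  have hnorm : (P.subgroupOf M).Normal := by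
    by_contra hnn
    have := CfsgLib.Char.LinearSylow.small_degree hsolv (CfsgLib.Char.isCharacter_comp hχ M.subtype)
      (fun g hg => Subtype.ext (hfaith g (by simpa using hg))) (n := e) (by simpa using he) (by omega) S
      hnn
    omega
  have hMN : M ≤ Subgroup.normalizer (P : Set L) := (Subgroup.normal_subgroupOf_iff_le_normalizer hPM).1 hnorm
  have hcx : x ∈ Subgroup.centralizer (C : Set L) := by
    rw [Subgroup.mem_centralizer_iff]
    intro c hc
    have h1 : c * x * c⁻¹ * x⁻¹ ∈ C := by
      have := mul_mem hc (Subgroup.Normal.conj_mem inferInstance c⁻¹ (inv_mem hc) x : x * c⁻¹ * x⁻¹ ∈ C)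
      simpa only [mul_assoc] using this
    have h2 : c * x * c⁻¹ * x⁻¹ ∈ P :=
      mul_mem ((Subgroup.mem_normalizer_iff.1 (hMN (hCM hc)) x).1 (Subgroup.mem_zpowers x))
        (inv_mem (Subgroup.mem_zpowers x))
    have h3 : c * x * c⁻¹ * x⁻¹ = 1 := by
      have : c * x * c⁻¹ * x⁻¹ ∈ C ⊓ P := ⟨h1, h2⟩
      rwa [disjoint_iff.1 hdis, Subgroup.mem_bot] at this
    exact mul_inv_eq_iff_eq_mul.1 (mul_inv_eq_one.1 h3)
  haveI : (Subgroup.centralizer (C : Set L)).Normal := inferInstance
  have htop : (⊤ : Subgroup L) ≤ Subgroup.centralizer (C : Set L) :=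
    hgen ▸ Subgroup.normalClosure_le_normal (Set.singleton_subset_iff.2 hcx)
  intro c hc
  rw [Subgroup.mem_center_iff]
  intro g
  exact ((Subgroup.mem_centralizer_iff.1 (htop (Subgroup.mem_top g))) c hc).symm

/-- No normal `p'`-complement to the subgroup of `x`. -/
theorem LocData.sup_ne_top (D : LocData p x) (hgen : Subgroup.normalClosure {x} = ⊤)
    (hP : ¬ (Subgroup.zpowers x).Normal) {χ : L → ℂ}
    (hχ : IsCharacter L χ) (hfaith : ∀ g : L, χ g = χ 1 → g = 1) (he : χ 1 = e) (he2 : e + 1 < p)
    (C : Subgroup L) [C.Normal] (hC : x ∉ C) : C ⊔ Subgroup.zpowers x ≠ ⊤ := by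
  intro htop
  have hle := D.central hgen hχ hfaith he he2 C fun h => hC (D.mem_of_dvd C h)
  refine hP (Subgroup.normalizer_eq_top_iff.1 (eq_top_iff.2 (htop ▸ sup_le ?_ Subgroup.le_normalizer)))
  intro c hc
  refine Subgroup.centralizer_le_normalizer _ (Subgroup.mem_centralizer_iff.2 fun z _ => ?_)
  exact Subgroup.mem_center_iff.1 (hle hc) z

/-- `x` lies in the derived group. -/
theorem LocData.mem_commutator (D : LocData p x) (hgen : Subgroup.normalClosure {x} = ⊤)
    (hP : ¬ (Subgroup.zpowers x).Normal) {χ : L → ℂ}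
    (hχ : IsCharacter L χ) (hfaith : ∀ g : L, χ g = χ 1 → g = 1) (he : χ 1 = e) (he2 : e + 1 < p) :
    x ∈ commutator L := by
  by_contra hx
  refine D.sup_ne_top hgen hP hχ hfaith he he2 (commutator L) hx (eq_top_iff.2 ?_)
  haveI : (commutator L ⊔ Subgroup.zpowers x).Normal :=
    ⟨fun h hh g => by
      have h1 : ⁅g, h⁆ ∈ commutator L := Subgroup.commutator_mem_commutator (Subgroup.mem_top g) (Subgroup.mem_top h)
      have h2 := mul_mem (Subgroup.mem_sup_left (T := Subgroup.zpowers x) h1) hh
      simpa [commutatorElement_def] using h2⟩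
  exact hgen ▸ Subgroup.normalClosure_le_normal (Set.singleton_subset_iff.2
    (show x ∈ commutator L ⊔ Subgroup.zpowers x from Subgroup.mem_sup_right (Subgroup.mem_zpowers x)))

end CfsgLib.Char.HalfDegree
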