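import Cfsg.Agent.Lib.Char.HalfDegree.PslHom
import Cfsg.Agent.Lib.Char.SmallDegree.Restrict

/-!
# Groups with a faithful character of degree `(p - 1) / 2`
-/

set_option autoImplicit false
set_option linter.unusedSectionVars false

namespace CfsgLib.Char.HalfDegree

open Cfsg CfsgLib.Perm.Dickson CfsgLib.AutPSL

universe u

variable {p : ℕ} [hp : Fact p.Prime]

theorem squares_finset {e : ℕ} (he : 2 * e + 1 = p) :
    ∃ R : Finset (ZMod p)ˣ, e ≤ R.card ∧ ∀ r ∈ R, ∃ s : (ZMod p)ˣ, r = s * s := by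
  classical
  have hne : ∀ i : Fin e, ((i.val + 1 : ℕ) : ZMod p) ≠ 0 := fun i => by
    rw [Ne, CharP.cast_eq_zero_iff (ZMod p) p]
    exact Nat.not_dvd_of_pos_of_lt (Nat.succ_pos _) (by omega)
  let f : Fin e → (ZMod p)ˣ := fun i => Units.mk0 _ (hne i) * Units.mk0 _ (hne i)
  have hf : Function.Injective f := by
    intro i j h
    have h' := congrArg Units.val h
    simp only [f, Units.val_mul, Units.val_mk0] at h'
    rcases mul_self_eq_mul_self_iff.1 h' with h1 | h1
    · rw [ZMod.natCast_eq_natCast_iff', Nat.mod_eq_of_lt (by omega), Nat.mod_eq_of_lt (by omega)] at h1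
      exact Fin.ext (by omega)
    · rw [eq_neg_iff_add_eq_zero, ← Nat.cast_add, CharP.cast_eq_zero_iff (ZMod p) p] at h1
      have := Nat.le_of_dvd (by omega) h1
      omega
  refine ⟨Finset.univ.image f, ?_, fun r hr => ?_⟩
  · rw [Finset.card_image_of_injective _ hf, Finset.card_univ, Fintype.card_fin]
  · obtain ⟨i, -, rfl⟩ := Finset.mem_image.1 hr
    exact ⟨_, rfl⟩

theorem psl_of_half_degree {G : Type u} [Group G] [Finite G] (h5 : 5 ≤ p) (hdiv : p ∣ Nat.card G)
    (hsq : ¬ p ^ 2 ∣ Nat.card G) (hnn : ∀ H : Subgroup G, H.Normal → Nat.card H ≠ p) {e : ℕ}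
    (he : 2 * e + 1 = p) (ρ : Representation ℂ G (Fin e → ℂ))
    (hρ : ∀ g, ρ.character g = ρ.character 1 → g = 1) :
    Nonempty ((G ⧸ Subgroup.center G) ≃* Matrix.ProjectiveSpecialLinearGroup (Fin 2) (ZMod p)) := by
  classical
  obtain ⟨x, hx⟩ := exists_prime_orderOf_dvd_card' (G := G) p hdiv
  have D₀ : LocData p x := ⟨hx, hsq⟩
  obtain ⟨-, D, hP, -, hgen⟩ := closure_facts D₀ hnn
  obtain ⟨hcomm, hperf⟩ := closure_perfect D₀ hnn ⟨e, ρ, rfl⟩ hρ
    (by rw [Representation.char_one, Module.finrank_fin_fun]) (by omega : e + 1 < p)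
  set L : Subgroup G := Subgroup.normalClosure {x}
  let ρL : Representation ℂ L (Fin e → ℂ) := ρ.comp L.subtype
  have hρL : ∀ g : L, ρL.character g = ρL.character 1 → g = 1 := fun g hg => by
    refine Subtype.ext (hρ g ?_)
    simpa [ρL, Representation.character] using hg
  have hnp : Nat.card L ≠ p := fun h => hP (by
    rw [(Subgroup.card_eq_iff_eq_top (Subgroup.zpowers (ncGen x))).1 (by rw [Nat.card_zpowers, D.order, h])]
    exact Subgroup.normal_top)
  obtain ⟨k, hkf, hka, hkc, c, τ, hce, hirr, hτx⟩ := exists_modp D hcomm hgen hnp ρL hρL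
  obtain ⟨ψ, hψ⟩ := exists_psi D (by omega) hirr hgen hτx
  have hx1 : ρL (ncGen x) ≠ 1 := fun h => by
    have h1 : ncGen x = 1 := hρL _ (by simp [Representation.character, h])
    have h2 := D.order
    rw [h1, orderOf_one] at h2
    exact hp.out.one_lt.ne h2
  exact psl_of_hom h5 D₀ hnn (by omega) (by omega) ρ hρ ψ hψ
    (CfsgLib.Char.SmallDegree.no_invariant_half hperf D.sq D.order hgen ρL hx1
      (by rw [Module.finrank_fin_fun]; omega))

end CfsgLib.Char.HalfDegree
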