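import Cfsg.Agent.Lib.AutPSL.Main
import Cfsg.Agent.Lib.AutPSL.Coset

/-!
# Automorphisms and unipotent elements of `PSL(2, p)`
-/

set_option autoImplicit false
set_option linter.unusedSectionVars false

namespace CfsgLib.Char.HalfDegree

open Matrix CfsgLib.AutPSL

variable {F : Type*} [Field F]

/-- The upper unitriangular matrix. -/
def uMat (t : F) : Matrix.SpecialLinearGroup (Fin 2) F := ⟨!![1, t; 0, 1], by simp [Matrix.det_fin_two]⟩

theorem uMat_add (s t : F) : uMat (s + t) = uMat s * uMat t := Subtype.ext (by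
  show (!![1, s + t; 0, 1] : Matrix (Fin 2) (Fin 2) F) = !![1, s; 0, 1] * !![1, t; 0, 1]
  ext i j
  fin_cases i <;> fin_cases j <;> simp [add_comm])

/-- The upper unitriangular element. -/
noncomputable def uu : Multiplicative F →* Matrix.ProjectiveSpecialLinearGroup (Fin 2) F :=
  (QuotientGroup.mk' _).comp (MonoidHom.mk' (fun t => uMat t.toAdd) fun a b => uMat_add a.toAdd b.toAdd)

theorem uu_ne_one {t : F} (ht : t ≠ 0) : uu (Multiplicative.ofAdd t) ≠ 1 := by
  intro h
  have h' := (QuotientGroup.eq_one_iff _).1 h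
  rw [Matrix.SpecialLinearGroup.mem_center_iff] at h'
  obtain ⟨r, -, hr⟩ := h'
  have := congrFun (congrFun hr 0) 1
  simp [uMat] at this
  exact ht this.symm

/-- Conjugation by `diag(a, b)`. -/
theorem ind_diag_uu (a b : Fˣ) (t : F) :
    ind (Matrix.GeneralLinearGroup.mkOfDetNeZero !![(a : F), 0; 0, (b : F)]
      (by simp [Matrix.det_fin_two]) : GL (Fin 2) F) 1 (uu (Multiplicative.ofAdd t)) =
      uu (Multiplicative.ofAdd ((a : F) * t * (b : F)⁻¹)) := by
  set m : GL (Fin 2) F := Matrix.GeneralLinearGroup.mkOfDetNeZero !![(a : F), 0; 0, (b : F)]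
    (by simp [Matrix.det_fin_two]) with hm
  refine congrArg proj (Subtype.ext ?_)
  show m.1 * ((!![1, t; 0, 1] : Matrix (Fin 2) (Fin 2) F).map (1 : RingAut F)) * (m⁻¹).1 = !![1, _; 0, 1]
  have e : ((!![1, t; 0, 1] : Matrix (Fin 2) (Fin 2) F).map (1 : RingAut F)) = !![1, t; 0, 1] := by
    ext i j; rfl
  have e2 : m.1 * (!![1, t; 0, 1] : Matrix (Fin 2) (Fin 2) F) = !![1, (a : F) * t * (b : F)⁻¹; 0, 1] * m.1 := by
    rw [show m.1 = !![(a : F), 0; 0, (b : F)] from rfl]
    ext i j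
    fin_cases i <;> fin_cases j <;> simp
  rw [e, e2, mul_assoc, Units.mul_inv, mul_one]
  rfl

/-- A matrix of square determinant induces an inner automorphism. -/
theorem ind_square {m : GL (Fin 2) F} (h : IsSquare m.1.det) :
    ∃ s : Matrix.ProjectiveSpecialLinearGroup (Fin 2) F, ∀ y, ind m 1 y = s * y * s⁻¹ := by
  obtain ⟨r, hr⟩ := h
  have hd := ((Matrix.isUnit_iff_isUnit_det _).1 m.isUnit).ne_zero
  have hr0 : r ≠ 0 := fun e => hd (by rw [hr, e, mul_zero])
  let s : Matrix.SpecialLinearGroup (Fin 2) F := ⟨r⁻¹ • m.1, by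
    rw [det_smul, Fintype.card_fin, hr]
    field_simp⟩
  refine ⟨QuotientGroup.mk s, fun y => ?_⟩
  obtain ⟨t, rfl⟩ := QuotientGroup.mk'_surjective _ y
  refine congrArg proj (Subtype.ext ?_)
  show m.1 * (t.1.map (1 : RingAut F)) * (m⁻¹).1 = (s * t * s⁻¹).1
  have e : t.1.map (1 : RingAut F) = t.1 := by ext i j; rfl
  have e1 : m.1 * t.1 = (s * t * s⁻¹).1 * m.1 := by
    have h1 : m.1 = r • s.1 := by
      show m.1 = r • (r⁻¹ • m.1)
      rw [smul_smul, mul_inv_cancel₀ hr0, one_smul]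
    rw [h1, Matrix.smul_mul, Matrix.mul_smul, ← Matrix.SpecialLinearGroup.coe_mul, ← Matrix.SpecialLinearGroup.coe_mul,
      inv_mul_cancel_right]
  rw [e, e1, mul_assoc, Units.mul_inv, mul_one]

end CfsgLib.Char.HalfDegree
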