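import Cfsg.Agent.Lib.Char.HalfDegree.Closure
import Cfsg.Agent.Lib.Char.HalfDegree.Image
import Cfsg.Agent.Lib.Char.HalfDegree.Eigen
import Cfsg.Agent.Lib.Char.HalfDegree.Projective
import Cfsg.Agent.Lib.Perm.Dickson.Minimal

/-!
# Groups whose normal closure of an element of order `p` maps to `PGL(2, k)`
-/

set_option autoImplicit false
set_option linter.unusedSectionVars false

namespace CfsgLib.Char.HalfDegree

open Cfsg CfsgLib.Perm.Dickson CfsgLib.AutPSL

universe u

variable {p : ℕ} [hp : Fact p.Prime]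

theorem isSquare_mul_nonsquares (h5 : p ≠ 2) {a b : ZMod p} (ha : ¬ IsSquare a) (hb : ¬ IsSquare b) :
    IsSquare (a * b) := by
  have hF : ringChar (ZMod p) ≠ 2 := by rwa [ZMod.ringChar_zmod_n]
  have ha0 : a ≠ 0 := fun h => ha (h ▸ IsSquare.zero)
  have hb0 : b ≠ 0 := fun h => hb (h ▸ IsSquare.zero)
  rw [← quadraticChar_one_iff_isSquare (mul_ne_zero ha0 hb0), map_mul, quadraticChar_neg_one_iff_not_isSquare.2 ha,
    quadraticChar_neg_one_iff_not_isSquare.2 hb]
  norm_num

theorem exists_scalar {G : Type*} [Group G] {V : Type*} [AddCommGroup V] [Module ℂ V] [FiniteDimensional ℂ V]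
    [Nontrivial V] (σ : G →* Module.End ℂ V)
    (hirr : ∀ U : Submodule ℂ V, (∀ g, ∀ v ∈ U, σ g v ∈ U) → U = ⊥ ∨ U = ⊤) {T : Module.End ℂ V}
    (hT : ∀ g, σ g * T = T * σ g) : ∃ a : ℂ, ∀ v, T v = a • v := by
  obtain ⟨a, ha⟩ := Module.End.exists_eigenvalue T
  rcases hirr (Module.End.eigenspace T a) (fun g v hv => by
      rw [Module.End.mem_eigenspace_iff] at hv ⊢
      rw [← Module.End.mul_apply, ← hT, Module.End.mul_apply, hv, map_smul]) with h | h
  · exact absurd h ha
  · exact ⟨a, fun v => Module.End.mem_eigenspace_iff.1 (h ▸ Submodule.mem_top)⟩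

set_option maxHeartbeats 1000000 in
/-- A faithful representation of small degree, irreducible on the normal closure, and a projective
representation of degree two of the normal closure give `PSL(2, p)`. -/
theorem psl_of_hom {G : Type u} [Group G] [Finite G] (h5 : 5 ≤ p) {x : G} (D₀ : LocData p x)
    (hnn : ∀ H : Subgroup G, H.Normal → Nat.card H ≠ p) {e : ℕ} (he0 : 0 < e) (he : e + 1 < p)
    (ρ : Representation ℂ G (Fin e → ℂ)) (hρ : ∀ g, ρ.character g = ρ.character 1 → g = 1)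
    {k : Type*} [Field k] [IsAlgClosed k] [CharP k p]
    (ψ : Subgroup.normalClosure {x} →* G2 k) (hψ : ψ (ncGen x) ≠ 1)
    (hirrL : ∀ U : Submodule ℂ (Fin e → ℂ),
      (∀ g : Subgroup.normalClosure {x}, ∀ v ∈ U, ρ (g : G) v ∈ U) → U = ⊥ ∨ U = ⊤) :
    Nonempty ((G ⧸ Subgroup.center G) ≃* Matrix.ProjectiveSpecialLinearGroup (Fin 2) (ZMod p)) := by
  classical
  obtain ⟨hordL, D, hP, hclos, hgen⟩ := closure_facts D₀ hnn
  have hχ : IsCharacter G ρ.character := ⟨e, ρ, rfl⟩
  have hdegG : ρ.character 1 = e := by rw [Representation.char_one, Module.finrank_fin_fun]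
  obtain ⟨hcomm, -⟩ := closure_perfect D₀ hnn hχ hρ hdegG he
  let L : Subgroup G := Subgroup.normalClosure {x}
  let x' : L := ncGen x
  let ρL : Representation ℂ L (Fin e → ℂ) := ρ.comp L.subtype
  have hρL : ∀ g : L, ρL.character g = ρL.character 1 → g = 1 := fun g hg => by
    refine Subtype.ext (hρ g ?_)
    simpa [ρL, Representation.character] using hg
  have hχL : IsCharacter L ρL.character := ⟨e, ρL, rfl⟩
  have hdeg : ρL.character 1 = e := by rw [Representation.char_one, Module.finrank_fin_fun]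
  obtain ⟨φ, hφs, hφker⟩ := exists_surj D h5 hgen hcomm ψ hψ
  -- the kernel is the centre
  have hxC : x' ∉ φ.ker := by rw [hφker]; exact hψ
  have hpC : ¬ p ∣ Nat.card φ.ker := fun h => hxC (D.mem_of_dvd _ h)
  have hCcen : φ.ker ≤ Subgroup.center L := D.central hgen hχL hρL hdeg (by omega) _ hpC
  have hZC : Subgroup.center L ≤ φ.ker := by
    haveI := finite_G2 (F := ZMod p)
    obtain ⟨hsimp, hnc⟩ := psl_simple_noncomm (F := ZMod p) (by rw [Nat.card_zmod]; omega)
    haveI := hsimp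
    intro z hz
    rcases IsSimpleGroup.eq_bot_or_eq_top_of_normal (Subgroup.center (S2P (ZMod p))) inferInstance with h | h
    · have : φ z ∈ Subgroup.center (S2P (ZMod p)) := by
        rw [Subgroup.mem_center_iff]
        intro y
        obtain ⟨y', rfl⟩ := hφs y
        rw [← map_mul, ← map_mul, Subgroup.mem_center_iff.1 hz y']
      rwa [h, Subgroup.mem_bot] at this
    · exact absurd ⟨⟨fun a b => (Subgroup.mem_center_iff.1 (h ▸ Subgroup.mem_top b) a)⟩⟩ hnc
  have hkereq : φ.ker = Subgroup.center L := le_antisymm hCcen hZC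
  have himg : ∀ a b : L, a ^ p = 1 → b ^ p = 1 → φ a = φ b → a = b := by
    intro a b ha hb hab
    have hc : a⁻¹ * b ∈ φ.ker := by rw [MonoidHom.mem_ker, map_mul, map_inv, hab, inv_mul_cancel]
    have hcp : (a⁻¹ * b) ^ p = 1 := by
      have hcom : Commute a (a⁻¹ * b) := Subgroup.mem_center_iff.1 (hCcen hc) a
      have h2 := hcom.mul_pow p
      rw [mul_inv_cancel_left, hb, ha, one_mul] at h2
      exact h2.symm
    have h1 : orderOf (⟨a⁻¹ * b, hc⟩ : φ.ker) ∣ Nat.card φ.ker := orderOf_dvd_natCard _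
    rw [Subgroup.orderOf_mk] at h1
    rcases (Nat.dvd_prime hp.out).1 (orderOf_dvd_of_pow_eq_one hcp) with h | h
    · exact inv_mul_eq_one.1 (orderOf_eq_one_iff.1 h)
    · exact absurd (h ▸ h1) hpC
  -- an element over a unipotent one
  obtain ⟨y₁, hy₁⟩ := hφs (uu (Multiplicative.ofAdd (1 : ZMod p)))
  have huup : uu (Multiplicative.ofAdd (1 : ZMod p)) ^ p = 1 := by
    rw [← map_pow, ← ofAdd_nsmul, nsmul_one, CharP.cast_eq_zero, ofAdd_zero, map_one]
  have hy₁p : y₁ ^ p ∈ φ.ker := by rw [MonoidHom.mem_ker, map_pow, hy₁, huup]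
  have hmz : ((Nat.card φ.ker : ℕ) : ZMod p) ≠ 0 := by rw [Ne, CharP.cast_eq_zero_iff (ZMod p) p]; exact hpC
  set x₀ : L := y₁ ^ (Nat.card φ.ker * ((Nat.card φ.ker : ZMod p)⁻¹).val) with hx₀def
  have hx₀φ : φ x₀ = uu (Multiplicative.ofAdd (1 : ZMod p)) := by
    rw [hx₀def, map_pow, hy₁, ← map_pow, ← ofAdd_nsmul, nsmul_one, Nat.cast_mul, ZMod.natCast_zmod_val,
      mul_inv_cancel₀ hmz]
  have hx₀p : x₀ ^ p = 1 := by
    rw [hx₀def, ← pow_mul, mul_comm, pow_mul]
    have h1 : ((⟨y₁ ^ p, hy₁p⟩ : φ.ker)) ^ Nat.card φ.ker = 1 := pow_card_eq_one'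
    have h2 : (y₁ ^ p) ^ Nat.card φ.ker = 1 := by simpa using congrArg Subtype.val h1
    rw [pow_mul, h2, one_pow]
  have hx₀ne : x₀ ≠ 1 := fun h => uu_ne_one (F := ZMod p) one_ne_zero (by rw [← hx₀φ, h, map_one])
  have hx₀pow : ∀ r : ZMod p, φ (x₀ ^ r.val) = uu (Multiplicative.ofAdd r) := fun r => by
    rw [map_pow, hx₀φ, ← map_pow, ← ofAdd_nsmul, nsmul_one, ZMod.natCast_zmod_val]
  have hρinj : ∀ g : G, ρ g = 1 → g = 1 := fun g hg => hρ g (by simp [Representation.character, hg])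
  have hρx₀ : ρL x₀ ≠ 1 := fun h => hx₀ne (Subtype.ext (hρinj _ h))
  haveI : Nonempty (Fin e) := ⟨⟨0, by omega⟩⟩
  have hcentral : ∀ g : G, (∀ l : L, (l : G) * g = g * l) → g ∈ Subgroup.center G := by
    intro g hg
    obtain ⟨a, ha⟩ := exists_scalar ρL hirrL (T := ρ g) fun l => by
      show ρ (l : G) * ρ g = ρ g * ρ (l : G)
      rw [← map_mul, ← map_mul, hg]
    rw [Subgroup.mem_center_iff]
    intro z
    have h1 : ρ (z * g * z⁻¹ * g⁻¹) = 1 := by
      have hc : ρ z * ρ g = ρ g * ρ z := LinearMap.ext fun v => by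
        rw [Module.End.mul_apply, Module.End.mul_apply, ha, ha, map_smul]
      rw [map_mul, map_mul, map_mul, hc, mul_assoc (ρ g), ← map_mul ρ z, mul_inv_cancel, map_one, mul_one, ← map_mul,
        mul_inv_cancel, map_one]
    exact mul_inv_eq_iff_eq_mul.1 (mul_inv_eq_one.1 (hρinj _ h1))
  -- the action of `G` on the quotient
  have hconjker : ∀ g : G, φ.ker ≤ (φ.comp (MulAut.conjNormal g : MulAut L).toMonoidHom).ker := by
    intro g z hz
    rw [hkereq] at hz
    show (MulAut.conjNormal g : MulAut L) z ∈ φ.ker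
    rw [hkereq, Subgroup.mem_center_iff]
    intro w
    obtain ⟨w', rfl⟩ := (MulAut.conjNormal g : MulAut L).surjective w
    rw [← map_mul, ← map_mul, Subgroup.mem_center_iff.1 hz w']
  let act : G → S2P (ZMod p) →* S2P (ZMod p) := fun g =>
    φ.liftOfSurjective hφs ⟨φ.comp (MulAut.conjNormal g : MulAut L).toMonoidHom, hconjker g⟩
  have hact : ∀ g l, act g (φ l) = φ ((MulAut.conjNormal g : MulAut L) l) := fun g l =>
    MonoidHom.liftOfRightInverse_comp_apply _ _ _ _ l
  have hactmul : ∀ g h y, act (g * h) y = act g (act h y) := fun g h y => by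
    obtain ⟨l, rfl⟩ := hφs y
    rw [hact, hact, hact, map_mul]
    rfl
  have hact1 : ∀ y, act 1 y = y := fun y => by
    obtain ⟨l, rfl⟩ := hφs y
    rw [hact, map_one]
    rfl
  let Φ : G →* MulAut (S2P (ZMod p)) :=
    MonoidHom.mk' (fun g =>
      { toFun := act g
        invFun := act g⁻¹
        left_inv := fun y => by rw [← hactmul, inv_mul_cancel, hact1]
        right_inv := fun y => by rw [← hactmul, mul_inv_cancel, hact1]
        map_mul' := map_mul (act g) }) fun g h => MulEquiv.ext fun y => hactmul g h y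
  have hΦ : ∀ g l, Φ g (φ l) = φ ((MulAut.conjNormal g : MulAut L) l) := hact
  have hσ : ∀ σ : RingAut (ZMod p), σ = 1 := fun σ => RingEquiv.ext fun a =>
    RingHom.congr_fun (Subsingleton.elim (σ : ZMod p →+* ZMod p) (RingHom.id _)) a
  have hclass : ∀ g, ∃ m : GL (Fin 2) (ZMod p), Φ g = indHom m := fun g => by
    obtain ⟨m, σ, h | ⟨h3, -⟩⟩ := aut_classify (n := 2) le_rfl (Φ g)
    · exact ⟨m, by rw [h, hσ σ]; rfl⟩
    · omega
  let Mset : Subgroup (GL (Fin 2) (ZMod p)) := Φ.range.comap indHom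
  have hsqM : ∀ m : GL (Fin 2) (ZMod p), IsSquare m.1.det → m ∈ Mset := by
    intro m hm
    obtain ⟨w, hw⟩ := ind_square hm
    obtain ⟨l, rfl⟩ := hφs w
    refine ⟨(l : G), MulEquiv.ext fun y => ?_⟩
    obtain ⟨l', rfl⟩ := hφs y
    rw [hΦ, indHom_apply, hw, ← map_inv, ← map_mul, ← map_mul]
    congr 1
  have hnot : ∀ m ∈ Mset, IsSquare m.1.det := by
    intro m hm
    by_contra hns
    have hd : ∀ m' : GL (Fin 2) (ZMod p), m'.1.det ≠ 0 := fun m' =>
      ((Matrix.isUnit_iff_isUnit_det _).1 m'.isUnit).ne_zero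
    have hall : ∀ m' : GL (Fin 2) (ZMod p), m' ∈ Mset := by
      intro m'
      by_cases h : IsSquare m'.1.det
      · exact hsqM m' h
      · have hq : IsSquare (m * m').1.det := by
          rw [Units.val_mul, Matrix.det_mul]
          exact isSquare_mul_nonsquares (by omega) hns h
        have := Mset.mul_mem (Mset.inv_mem hm) (hsqM _ hq)
        rwa [inv_mul_cancel_left] at this
    have hall' : ∀ r : (ZMod p)ˣ, ∃ g : G, g * (x₀ : G) * g⁻¹ = (x₀ : G) ^ (r : ZMod p).val := by
      intro r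
      set m₁ := Matrix.GeneralLinearGroup.mkOfDetNeZero !![(r : ZMod p), 0; 0, ((1 : (ZMod p)ˣ) : ZMod p)]
        (by simp [Matrix.det_fin_two]) with hm₁
      obtain ⟨g, hg⟩ := hall m₁
      have key : (MulAut.conjNormal g : MulAut L) x₀ = x₀ ^ (r : ZMod p).val := by
        refine himg _ _ (by rw [← map_pow, hx₀p, map_one]) (by rw [← pow_mul, mul_comm, pow_mul, hx₀p, one_pow]) ?_
        rw [← hΦ, hg, hx₀φ, hx₀pow, indHom_apply, hm₁, ind_diag_uu]
        simp
      exact ⟨g, by simpa using congrArg Subtype.val key⟩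
    have hρx₀' : ρ (x₀ : G) ≠ 1 := hρx₀
    have := card_le_finrank (p := p) (T := ρ (x₀ : G))
      (by rw [← map_pow, show ((x₀ : G)) ^ p = 1 by rw [← Subgroup.coe_pow, hx₀p]; rfl, map_one]) hρx₀'
      Finset.univ (fun r _ => by
        obtain ⟨g, hg⟩ := hall' r
        refine ⟨LinearEquiv.ofLinearMap (ρ g) (ρ g⁻¹) (by rw [← Module.End.mul_eq_comp, ← map_mul, mul_inv_cancel, map_one]; rfl)
          (by rw [← Module.End.mul_eq_comp, ← map_mul, inv_mul_cancel, map_one]; rfl), fun v => ?_⟩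
        show ρ g (ρ (x₀ : G) v) = (ρ (x₀ : G) ^ (r : ZMod p).val) (ρ g v)
        rw [← map_pow, ← hg, ← Module.End.mul_apply, ← map_mul, ← Module.End.mul_apply, ← map_mul, inv_mul_cancel_right])
    rw [Finset.card_univ, ZMod.card_units, Module.finrank_fin_fun] at this
    omega
  have hdecomp : ∀ g : G, ∃ l : L, ((l : G))⁻¹ * g ∈ Subgroup.center G := by
    intro g
    obtain ⟨m, hm⟩ := hclass g
    obtain ⟨w, hw⟩ := ind_square (hnot m ⟨g, hm⟩)
    obtain ⟨l, rfl⟩ := hφs w
    refine ⟨l, hcentral _ ?_⟩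
    have hfix : ∀ y : L, orderOf y = p → (MulAut.conjNormal ((l : G)⁻¹ * g) : MulAut L) y = y := fun y hy => by
      have hyp : y ^ p = 1 := hy ▸ pow_orderOf_eq_one y
      refine himg _ _ (by rw [← map_pow, hyp, map_one]) hyp ?_
      rw [← hΦ, map_mul, MulAut.mul_apply, hm, indHom_apply, hw, ← map_inv, ← map_mul, ← map_mul, hΦ]
      congr 1
      apply Subtype.ext
      simp [mul_assoc]
    let S : Subgroup L := MonoidHom.eqLocus (MulAut.conjNormal ((l : G)⁻¹ * g) : MulAut L).toMonoidHom (MonoidHom.id L)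
    have hS : S = ⊤ := hclos S hfix
    intro z
    have hz : z ∈ S := hS ▸ Subgroup.mem_top z
    have := congrArg Subtype.val (show (MulAut.conjNormal ((l : G)⁻¹ * g) : MulAut L) z = z from hz)
    rw [MulAut.conjNormal_apply] at this
    exact (mul_inv_eq_iff_eq_mul.1 this).symm
  let f : L →* G ⧸ Subgroup.center G := (QuotientGroup.mk' _).comp L.subtype
  have hfs : Function.Surjective f := fun q => by
    obtain ⟨g, rfl⟩ := QuotientGroup.mk'_surjective _ q
    obtain ⟨l, hl⟩ := hdecomp g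
    exact ⟨l, QuotientGroup.eq.2 hl⟩
  have hfker : f.ker = φ.ker := by
    rw [hkereq]
    ext z
    rw [MonoidHom.mem_ker]
    show ((z : G) : G ⧸ Subgroup.center G) = 1 ↔ _
    rw [QuotientGroup.eq_one_iff]
    refine ⟨fun h => Subgroup.mem_center_iff.2 fun w => Subtype.ext (Subgroup.mem_center_iff.1 h w), fun h => ?_⟩
    exact hcentral _ fun l => congrArg Subtype.val (Subgroup.mem_center_iff.1 h l)
  exact ⟨(QuotientGroup.quotientKerEquivOfSurjective f hfs).symm.trans
    ((QuotientGroup.quotientMulEquivOfEq hfker).trans (QuotientGroup.quotientKerEquivOfSurjective φ hφs))⟩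

end CfsgLib.Char.HalfDegree
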