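import Mathlib

/-!
# Relative traces modulo the image of a nilpotent element

A sum of conjugates over the cosets of `K` of an element fixed by `K` differs from that element by
a multiple of `c x - 1`, when `x` fixes only the trivial coset; a nilpotency argument turns it
into an idempotent fixed by the whole group.
-/

set_option autoImplicit false
set_option linter.unusedSectionVars false

namespace CfsgLib.Char.HalfDegree

open Finset

variable {M : Type*} [Group M] {R : Type*} [Ring R] (c : M →* R) (K : Subgroup M)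

/-- The sum of the conjugates over the cosets. -/
noncomputable def cosetSum [Fintype (M ⧸ K)] (π : R) : R :=
  ∑ q : M ⧸ K, c q.out * π * c q.out⁻¹

variable {K} {π : R}

theorem c_inv_mul (g : M) : c g⁻¹ * c g = 1 := by rw [← map_mul, inv_mul_cancel, map_one]

theorem c_mul_inv (g : M) : c g * c g⁻¹ = 1 := by rw [← map_mul, mul_inv_cancel, map_one]

theorem conj_mk (hπ : ∀ k ∈ K, c k * π = π * c k) (g : M) :
    c (g : M ⧸ K).out * π * c ((g : M ⧸ K).out)⁻¹ = c g * π * c g⁻¹ := by
  obtain ⟨k, hk⟩ := QuotientGroup.mk_out_eq_mul K g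
  rw [hk, mul_inv_rev, map_mul, map_mul, mul_assoc (c g) (c (k : M)) π, hπ _ k.2]
  simp only [mul_assoc]
  rw [← mul_assoc (c (k : M)) (c (k : M)⁻¹), c_mul_inv, one_mul]

theorem conj_smul (hπ : ∀ k ∈ K, c k * π = π * c k) (g : M) (q : M ⧸ K) :
    c (g • q).out * π * c (g • q).out⁻¹ = c g * (c q.out * π * c q.out⁻¹) * c g⁻¹ := by
  obtain ⟨a, rfl⟩ := QuotientGroup.mk_surjective q
  rw [show g • (a : M ⧸ K) = ((g * a : M) : M ⧸ K) from rfl, conj_mk c hπ, conj_mk c hπ,
    mul_inv_rev, map_mul, map_mul]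
  simp only [mul_assoc]

theorem cosetSum_comm [Fintype (M ⧸ K)] (hπ : ∀ k ∈ K, c k * π = π * c k) (g : M) :
    c g * cosetSum c K π = cosetSum c K π * c g := by
  have h : c g * cosetSum c K π * c g⁻¹ = cosetSum c K π := by
    rw [cosetSum, Finset.mul_sum, Finset.sum_mul]
    exact Fintype.sum_equiv (MulAction.toPerm g) _ _ fun q => (conj_smul c hπ g q).symm
  calc c g * cosetSum c K π = c g * cosetSum c K π * (c g⁻¹ * c g) := by rw [c_inv_mul, mul_one]
    _ = cosetSum c K π * c g := by rw [← mul_assoc, h]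

/-- An orbit sum is a multiple of `a - 1`. -/
theorem orbit_sum_mem (a b φ : R) (p : ℕ) (hb : ∑ i ∈ range p, b ^ i = 0) :
    ∃ s, ∑ i ∈ range p, a ^ i * φ * b ^ i = (a - 1) * s := by
  refine ⟨∑ i ∈ range p, (∑ j ∈ range i, a ^ j) * φ * b ^ i, ?_⟩
  rw [Finset.mul_sum, ← sub_eq_zero, ← Finset.sum_sub_distrib]
  have : ∀ i, a ^ i * φ * b ^ i - (a - 1) * ((∑ j ∈ range i, a ^ j) * φ * b ^ i) = φ * b ^ i := by
    intro i
    rw [← mul_assoc (a - 1), ← mul_assoc (a - 1), mul_geom_sum]
    noncomm_ring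
  rw [Finset.sum_congr rfl fun i _ => this i, ← Finset.mul_sum, hb, mul_zero]

theorem cosetSum_sub_mem [Fintype (M ⧸ K)] (hπ : ∀ k ∈ K, c k * π = π * c k) {x : M} (hx : x ∈ K)
    {p : ℕ} (hp : p.Prime) (hxp : x ^ p = 1) (hfix : ∀ g : M, g⁻¹ * x * g ∈ K → g ∈ K)
    (hb : ∑ i ∈ range p, c x⁻¹ ^ i = 0) :
    ∃ s, cosetSum c K π - π = (c x - 1) * s := by
  classical
  haveI : Fact p.Prime := ⟨hp⟩
  set f : M ⧸ K → R := fun q => c q.out * π * c q.out⁻¹ with hf
  have hfix' : ∀ q : M ⧸ K, x • q = q → q = ((1 : M) : M ⧸ K) := by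
    intro q hq
    obtain ⟨a, rfl⟩ := QuotientGroup.mk_surjective q
    rw [QuotientGroup.eq, mul_one]
    refine inv_mem (hfix a ?_)
    have := QuotientGroup.eq.1 (show (a : M ⧸ K) = ((x * a : M) : M ⧸ K) from hq.symm)
    rwa [← mul_assoc] at this
  have main : ∀ S : Finset (M ⧸ K), (∀ q ∈ S, x • q ∈ S) → (∀ q ∈ S, x • q ≠ q) →
      ∃ s, ∑ q ∈ S, f q = (c x - 1) * s := by
    intro S
    induction S using Finset.strongInduction with
    | _ S ih =>
      intro hS hne
      rcases S.eq_empty_or_nonempty with rfl | ⟨q, hq⟩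
      · exact ⟨0, by simp⟩
      have hpow : ∀ i : ℕ, x ^ i • q ∈ S := fun i => by
        induction i with
        | zero => rwa [pow_zero, one_smul]
        | succ i hi => rw [pow_succ', mul_smul]; exact hS _ hi
      have hper : ∀ i : ℕ, x ^ (i % p) • q = x ^ i • q := fun i => by
        rw [← pow_eq_pow_mod i hxp]
      have hinj : Set.InjOn (fun i : ℕ => x ^ i • q) (range p : Finset ℕ) := by
        intro i hi j hj hij
        simp only [coe_range, Set.mem_Iio] at hi hj hij
        wlog hle : i ≤ j generalizing i j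
        · exact (this (hij := hij.symm) (hi := hj) (hj := hi) (hle := Nat.le_of_not_le hle)).symm
        by_contra hne'
        obtain ⟨k, rfl⟩ := Nat.exists_eq_add_of_le hle
        have hk : 0 < k := by omega
        replace hij : x ^ k • q = q := by
          have h2 : x ^ i • (x ^ k • q) = x ^ i • q := by rw [← mul_smul, ← pow_add]; exact hij.symm
          exact MulAction.injective _ h2
        have hco : k.Coprime p := (hp.coprime_iff_not_dvd.2
          (Nat.not_dvd_of_pos_of_lt hk (by omega))).symm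
        obtain ⟨u, hu⟩ := exists_pow_eq_self_of_coprime
          (hco.coprime_dvd_right (orderOf_dvd_of_pow_eq_one hxp))
        have : x ∈ MulAction.stabilizer M q := hu ▸ pow_mem (show x ^ k ∈ MulAction.stabilizer M q from hij) u
        exact hne q hq this
      set O := (range p).image (fun i : ℕ => x ^ i • q) with hO
      have hOS : O ⊆ S := by intro y hy; obtain ⟨i, -, rfl⟩ := mem_image.1 hy; exact hpow i
      have hrest : ∀ y ∈ S \ O, x • y ∈ S \ O := by
        intro y hy
        rw [mem_sdiff] at hy ⊢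
        refine ⟨hS y hy.1, fun hxy => hy.2 ?_⟩
        obtain ⟨i, hi, e⟩ := mem_image.1 hxy
        refine mem_image.2 ⟨(i + (p - 1)) % p, mem_range.2 (Nat.mod_lt _ hp.pos), ?_⟩
        rw [hper, add_comm, pow_add, mul_smul, e, ← mul_smul, ← pow_succ,
          Nat.sub_add_cancel hp.pos, hxp, one_smul]
      have hlt : S \ O ⊂ S := sdiff_ssubset hOS ⟨q, mem_image.2
        ⟨0, mem_range.2 hp.pos, by simp⟩⟩
      obtain ⟨s, hs⟩ := ih _ hlt hrest fun y hy => hne y (mem_sdiff.1 hy).1
      obtain ⟨t, ht⟩ := orbit_sum_mem (c x) (c x⁻¹) (f q) p hb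
      refine ⟨s + t, ?_⟩
      rw [← Finset.sum_sdiff hOS, hs, mul_add, hO, Finset.sum_image hinj, ← ht]
      congr 1
      refine Finset.sum_congr rfl fun i _ => ?_
      simp only [hf]
      rw [conj_smul c hπ, ← map_pow, ← map_pow, inv_pow]
  obtain ⟨s, hs⟩ := main (univ.erase ((1 : M) : M ⧸ K)) (fun q hq => by
      rw [mem_erase] at hq ⊢
      refine ⟨fun h => hq.1 ?_, mem_univ _⟩
      have h1 : x⁻¹ • ((1 : M) : M ⧸ K) = ((1 : M) : M ⧸ K) :=
        (QuotientGroup.eq.2 (by simpa using hx) : ((x⁻¹ * 1 : M) : M ⧸ K) = _)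
      rw [← h1, ← h, inv_smul_smul])
    (fun q hq hfx => (mem_erase.1 hq).1 (hfix' q hfx))
  refine ⟨s, ?_⟩
  rw [← hs, cosetSum, ← Finset.add_sum_erase _ _ (mem_univ ((1 : M) : M ⧸ K)), conj_mk c hπ, map_one,
    inv_one, map_one, one_mul, mul_one, add_sub_cancel_left]

/-- The idempotent obtained by iteration. -/
def liftIdem (n : ℕ) (T : R) : R := 1 - (1 - T ^ n) ^ n

theorem commute_liftIdem {T a : R} (h : Commute a T) (n : ℕ) : Commute a (liftIdem n T) :=
  (Commute.one_right a).sub_right (((Commute.one_right a).sub_right (h.pow_right n)).pow_right n)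

theorem pow_of_commute {A s : R} (h : Commute A (A * s)) :
    ∀ n : ℕ, ∃ t, (A * s) ^ n = A ^ n * t
  | 0 => ⟨1, by simp⟩
  | n + 1 => by
    obtain ⟨t, ht⟩ := pow_of_commute h n
    refine ⟨s * t, ?_⟩
    rw [pow_succ', ht, ← mul_assoc, ← (h.pow_left n).eq, pow_succ]
    noncomm_ring

theorem sub_pow_mem {A T E : R} (hE : E * E = E) (hT : Commute A T)
    {s : R} (hs : T - E = A * s) : ∀ n : ℕ, n ≠ 0 → ∃ t, T ^ n - E = A * t
  | 0, h => absurd rfl h
  | 1, _ => ⟨s, by rw [pow_one, hs]⟩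
  | n + 2, _ => by
    obtain ⟨t, ht⟩ := sub_pow_mem hE hT hs (n + 1) (Nat.succ_ne_zero n)
    refine ⟨T * t + s * E, ?_⟩
    have h1 : T ^ (n + 2) - E = T * (T ^ (n + 1) - E) + (T - E) * E := by
      rw [mul_sub, sub_mul, hE, ← pow_succ']; abel
    rw [h1, ht, hs, mul_add, ← mul_assoc, ← hT.eq, mul_assoc, mul_assoc]

/-- Lifting of idempotents. -/
theorem liftIdem_spec {A T E : R} {n : ℕ} (hn : n ≠ 0) (hA : A ^ n = 0) (hE : E * E = E)
    (hT : Commute A T) (hAE : Commute A E) {s : R} (hs : T - E = A * s) :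
    liftIdem n T * liftIdem n T = liftIdem n T ∧ ∃ t, liftIdem n T - E = A * t := by
  have hT2 : ∃ u, T - T * T = A * u := ⟨s - s * E - E * s - s * (A * s), by
    have e1 : T = E + A * s := by rw [← hs]; abel
    have e2 : E * (A * s) = A * (E * s) := by rw [← mul_assoc, ← hAE.eq, mul_assoc]
    rw [e1]
    simp only [mul_add, add_mul, mul_sub, hE, e2, mul_assoc]
    abel⟩
  obtain ⟨u, hu⟩ := hT2
  have hnil : (T * (1 - T)) ^ n = 0 := by
    rw [mul_sub, mul_one, hu]
    obtain ⟨t, ht⟩ := pow_of_commute (A := A) (s := u) (hu ▸ hT.sub_right (hT.mul_right hT)) n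
    rw [ht, hA, zero_mul]
  set X := T ^ n with hX
  set Y := 1 - (1 - X) ^ n with hY
  have hYX : ∃ z, Y = X * z ∧ Commute T z := by
    refine ⟨∑ i ∈ range n, (1 - X) ^ i, ?_, ?_⟩
    · rw [hY, ← mul_neg_geom_sum (1 - X) n, sub_sub_cancel]
    · refine Commute.sum_right _ _ _ fun i _ => ?_
      exact ((Commute.one_right T).sub_right ((Commute.refl T).pow_right n)).pow_right i
  have hXT : ∃ w, 1 - X = (1 - T) * w ∧ Commute T w :=
    ⟨∑ i ∈ range n, T ^ i, by rw [mul_neg_geom_sum],
      Commute.sum_right _ _ _ fun i _ => (Commute.refl T).pow_right i⟩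
  obtain ⟨z, hz, hTz⟩ := hYX
  obtain ⟨w, hw, hTw⟩ := hXT
  refine ⟨?_, ?_⟩
  · have h1 : (1 - X) ^ n = (1 - T) ^ n * w ^ n := by
      rw [hw, ((Commute.one_left w).sub_left hTw).mul_pow]
    have hzero : Y * (1 - Y) = 0 := by
      conv_lhs => arg 2; rw [hY, sub_sub_cancel]
      rw [hz, h1, mul_assoc X z, ← mul_assoc z, ← ((Commute.one_left z).sub_left hTz).pow_left n |>.eq,
        mul_assoc _ z, ← mul_assoc X, hX, ← ((Commute.one_right T).sub_right (Commute.refl T)).mul_pow,
        hnil, zero_mul]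
    rw [mul_sub, mul_one, sub_eq_zero] at hzero
    exact hzero.symm
  · obtain ⟨t, ht⟩ := sub_pow_mem hE hT hs n hn
    have hcX : Commute A (1 - X) := (Commute.one_right A).sub_right (hT.pow_right n)
    have hE' : (1 - E) * (1 - E) = 1 - E := by
      simp only [mul_sub, sub_mul, one_mul, mul_one, hE, sub_self, sub_zero]
    obtain ⟨t', ht'⟩ := sub_pow_mem (T := 1 - X) (E := 1 - E) (s := -t) hE' hcX
      (by rw [mul_neg, ← ht]; abel) n hn
    refine ⟨-t', ?_⟩
    show Y - E = A * -t'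
    rw [hY, mul_neg, ← ht']
    abel

end CfsgLib.Char.HalfDegree

namespace CfsgLib.Char.HalfDegree

open Finset Polynomial in
/-- In characteristic `p` the geometric sum of length `p` is `(b - 1) ^ (p - 1)`. -/
theorem geom_sum_eq_sub_pow {k R : Type*} [Field k] [Ring R] [Algebra k R] (p : ℕ) [Fact p.Prime]
    [CharP k p] (b : R) : ∑ i ∈ range p, b ^ i = (b - 1) ^ (p - 1) := by
  have hp : p.Prime := Fact.out
  have h : ∑ i ∈ range p, (X : k[X]) ^ i = (X - 1) ^ (p - 1) := by
    refine mul_right_cancel₀ (by simpa using (Polynomial.monic_X_sub_C (1 : k)).ne_zero) ?_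
    rw [geom_sum_mul, ← pow_succ, Nat.sub_add_cancel hp.pos, sub_pow_char, one_pow]
  simpa using congrArg (aeval b) h

/-- A multiple of a nilpotent element commuting with it is nilpotent. -/
theorem pow_mul_eq_zero {R : Type*} [Ring R] {A s : R} {n : ℕ} (hA : A ^ n = 0)
    (h : Commute A (A * s)) : (A * s) ^ n = 0 := by
  obtain ⟨t, ht⟩ := pow_of_commute h n
  rw [ht, hA, zero_mul]

end CfsgLib.Char.HalfDegree
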