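import Cfsg.Agent.Lib.Char.HalfDegree.RelTrace
import Cfsg.Agent.Lib.Char.HalfDegree.Krylov

/-!
# Matrices over a group with a Sylow subgroup of order `p`, dimension below `p / 2`

The conjugation action on matrices and the lifting of idempotents from the normaliser of the Sylow
subgroup to the whole group.
-/

set_option autoImplicit false
set_option linter.unusedSectionVars false

namespace CfsgLib.Char.HalfDegree

open Matrix Finset

variable {k : Type*} [Field k] {c p : ℕ} [Fact p.Prime] [CharP k p] {L : Type*} [Group L] [Finite L]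

local notation "Mat" => Matrix (Fin (c + 1)) (Fin (c + 1)) k

/-- Conjugation on matrices. -/
def cj (ρ : L →* Mat) : L →* Module.End k Mat where
  toFun g := LinearMap.mulLeft k (ρ g) * LinearMap.mulRight k (ρ g⁻¹)
  map_one' := by
    refine LinearMap.ext fun f => ?_
    simp
  map_mul' g h := by
    refine LinearMap.ext fun f => ?_
    simp [_root_.mul_inv_rev, mul_assoc]

theorem cj_apply (ρ : L →* Mat) (g : L) (f : Mat) : cj ρ g f = ρ g * f * ρ g⁻¹ := by
  simp [cj, mul_assoc]

theorem rho_cancel (ρ : L →* Mat) (g : L) (f : Mat) : ρ g⁻¹ * (ρ g * f) = f := by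
  rw [← mul_assoc, ← map_mul, inv_mul_cancel, map_one, one_mul]

theorem trace_cj (ρ : L →* Mat) (g : L) (f f' : Mat) :
    (cj ρ g f * cj ρ g f').trace = (f * f').trace := by
  rw [cj_apply, cj_apply, show ρ g * f * ρ g⁻¹ * (ρ g * f' * ρ g⁻¹) = ρ g * (f * f') * ρ g⁻¹ by
    simp only [mul_assoc, rho_cancel], trace_mul_cycle, ← map_mul, inv_mul_cancel, map_one, one_mul]

theorem trace_cj_left (ρ : L →* Mat) (g : L) (f f' : Mat) :
    (cj ρ g f * f').trace = (f * cj ρ g⁻¹ f').trace := by
  conv_lhs => rw [show f' = cj ρ g (cj ρ g⁻¹ f') by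
    rw [← Module.End.mul_apply, ← map_mul, mul_inv_cancel, map_one, Module.End.one_apply]]
  exact trace_cj ρ g f _

/-- The hypotheses on the distinguished element. -/
structure LocData (p : ℕ) (x : L) : Prop where
  order : orderOf x = p
  sq : ¬ p ^ 2 ∣ Nat.card L

variable {x : L}

theorem LocData.pow_eq_one (D : LocData p x) : x ^ p = 1 := D.order ▸ pow_orderOf_eq_one x

theorem LocData.ne_one (D : LocData p x) : x ≠ 1 := fun h =>
  (Fact.out : p.Prime).ne_one (by rw [← D.order, h, orderOf_one])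

theorem LocData.not_dvd (D : LocData p x) : ¬ p ∣ Nat.card L / p := fun h => D.sq (by
  have hd : p ∣ Nat.card L := D.order ▸ orderOf_dvd_natCard x
  rw [pow_two, ← Nat.div_mul_cancel hd]
  exact Nat.mul_dvd_mul_right h p)

/-- An element of order dividing `p` in the normaliser lies in the Sylow subgroup. -/
theorem LocData.mem_zpowers (D : LocData p x) {y : L}
    (hy : y ∈ Subgroup.normalizer (Subgroup.zpowers x : Set L)) (hyp : y ^ p = 1) :
    y ∈ Subgroup.zpowers x := by
  set N := Subgroup.normalizer (Subgroup.zpowers x : Set L) with hN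
  set K := (Subgroup.zpowers x).subgroupOf N with hK
  haveI : K.Normal := Subgroup.normal_in_normalizer
  have hKc : Nat.card K = p := by
    rw [Nat.card_congr (Subgroup.subgroupOfEquivOfLe Subgroup.le_normalizer).toEquiv, Nat.card_zpowers, D.order]
  have hcop : ¬ p ∣ Nat.card (N ⧸ K) := fun h => D.sq (by
    refine dvd_trans ?_ (Subgroup.card_subgroup_dvd_card N)
    rw [Subgroup.card_eq_card_quotient_mul_card_subgroup K, hKc, pow_two]
    exact Nat.mul_dvd_mul_right h p)
  set q : N ⧸ K := QuotientGroup.mk' K ⟨y, hy⟩ with hq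
  have h1 : orderOf q ∣ p := orderOf_dvd_of_pow_eq_one (by
    rw [hq, ← map_pow, show (⟨y, hy⟩ : N) ^ p = 1 from Subtype.ext (by simpa using hyp), map_one])
  rcases (Nat.dvd_prime (Fact.out : p.Prime)).1 h1 with h | h
  · rw [orderOf_eq_one_iff, hq, QuotientGroup.mk'_apply, QuotientGroup.eq_one_iff] at h
    exact h
  · exact absurd (h ▸ orderOf_dvd_natCard q) hcop

/-- Only the trivial coset of the normaliser is fixed. -/
theorem LocData.fix (D : LocData p x) {g : L}
    (h : g⁻¹ * x * g ∈ Subgroup.normalizer (Subgroup.zpowers x : Set L)) :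
    g ∈ Subgroup.normalizer (Subgroup.zpowers x : Set L) := by
  have hpow : (g⁻¹ * x * g) ^ p = 1 := by
    have := conj_pow (i := p) (a := g⁻¹) (b := x)
    rw [inv_inv] at this
    rw [this, D.pow_eq_one, mul_one, inv_mul_cancel]
  obtain ⟨i, hi⟩ := Subgroup.mem_zpowers_iff.1 (D.mem_zpowers h hpow)
  have hx : Subgroup.zpowers (g⁻¹ * x * g) = Subgroup.zpowers x := by
    refine Subgroup.eq_of_le_of_card_ge ?_ ?_
    · rw [Subgroup.zpowers_le]; exact D.mem_zpowers h hpow
    · rw [Nat.card_zpowers, Nat.card_zpowers, D.order]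
      refine (le_of_eq ?_)
      refine (orderOf_eq_prime hpow ?_).symm
      intro h1
      refine D.ne_one ?_
      calc x = g * (g⁻¹ * x * g) * g⁻¹ := by group
        _ = 1 := by rw [h1]; group
  refine inv_inv g ▸ inv_mem (Subgroup.mem_normalizer_iff_map_conj_eq.2 ?_)
  rw [MonoidHom.map_zpowers]
  exact (congrArg Subgroup.zpowers (by simp [MulAut.conj_apply])).trans hx

theorem nilpotent_rho (ρ : L →* Mat) {y : L} (hy : y ^ p = 1) : (ρ y - 1) ^ (c + 1) = 0 :=
  pow_eq_zero_of_nilpotent ⟨p, by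
    rw [sub_pow_char_of_commute (p := p) (Commute.one_right (ρ y)), ← map_pow, hy, map_one, one_pow, sub_self]⟩

theorem nilpotent_cj (ρ : L →* Mat) {y : L} (hy : y ^ p = 1) : (cj ρ y - 1) ^ (2 * c + 1) = 0 := by
  have e : cj ρ y - 1 = LinearMap.mulLeft k (ρ y - 1) * LinearMap.mulRight k (ρ y⁻¹) +
      LinearMap.mulRight k (ρ y⁻¹ - 1) := by
    refine LinearMap.ext fun f => ?_
    simp only [LinearMap.sub_apply, Module.End.one_apply, cj_apply, LinearMap.add_apply, Module.End.mul_apply,
      LinearMap.mulLeft_apply, LinearMap.mulRight_apply, sub_mul, mul_sub, mul_one, one_mul, mul_assoc]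
    abel
  have hlr : ∀ a b : Mat, Commute (LinearMap.mulLeft k a) (LinearMap.mulRight k b) := fun a b =>
    LinearMap.ext fun f => by simp [mul_assoc]
  have hc : Commute (LinearMap.mulRight k (ρ y⁻¹)) (LinearMap.mulRight k (ρ y⁻¹ - 1)) :=
    LinearMap.ext fun f => by
      simp [mul_assoc, mul_sub, sub_mul]
  rw [e]
  refine Commute.add_pow_eq_zero_of_add_le_succ_of_pow_eq_zero (m := c + 1) (n := c + 1) ?_ ?_ ?_ (by omega)
  · exact (hlr _ _).mul_left hc
  · rw [(hlr _ _).mul_pow, LinearMap.pow_mulLeft, nilpotent_rho ρ hy, LinearMap.mulLeft_zero_eq_zero, zero_mul]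
  · rw [LinearMap.pow_mulRight, nilpotent_rho ρ (by rw [inv_pow, hy, inv_one]), LinearMap.mulRight_zero_eq_zero]

/-- A form-preserving endomorphism. -/
def SelfAdj (T : Module.End k Mat) : Prop := ∀ f f' : Mat, (T f * f').trace = (f * T f').trace

theorem selfAdj_pow {T : Module.End k Mat} (h : SelfAdj T) : ∀ n : ℕ, SelfAdj (T ^ n)
  | 0 => fun f f' => by simp
  | n + 1 => fun f f' => by
    conv_lhs => rw [pow_succ, Module.End.mul_apply, selfAdj_pow h n, h]
    rw [pow_succ', Module.End.mul_apply]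

theorem selfAdj_one_sub {T : Module.End k Mat} (h : SelfAdj T) : SelfAdj (1 - T) := fun f f' => by
  simp only [LinearMap.sub_apply, Module.End.one_apply, sub_mul, mul_sub, Matrix.trace_sub, h f f']

/-- An idempotent fixed by the normaliser lifts to one fixed by the group. -/
theorem exists_lift (D : LocData p x) (hd : 2 * c + 3 ≤ p) (ρ : L →* Mat) {π : Module.End k Mat}
    (hπ : π * π = π)
    (hN : ∀ n ∈ Subgroup.normalizer (Subgroup.zpowers x : Set L), cj ρ n * π = π * cj ρ n) :
    ∃ π' : Module.End k Mat, π' * π' = π' ∧ (∀ g, cj ρ g * π' = π' * cj ρ g) ∧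
      (∀ f, π' f = f → π f = 0 → f = 0) ∧ (∀ f, π f = f → π' f = 0 → f = 0) ∧
      (SelfAdj π → SelfAdj π') := by
  classical
  have hp : p.Prime := Fact.out
  set N := Subgroup.normalizer (Subgroup.zpowers x : Set L) with hNdef
  haveI : Fintype (L ⧸ N) := Fintype.ofFinite _
  set A : Module.End k Mat := cj ρ x - 1 with hA
  have hxN : x ∈ N := Subgroup.le_normalizer (Subgroup.mem_zpowers x)
  have hnil : A ^ (2 * c + 1) = 0 := nilpotent_cj ρ D.pow_eq_one
  set T := cosetSum (cj ρ) N π with hT
  have hb : ∑ i ∈ range p, cj ρ x⁻¹ ^ i = 0 := by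
    rw [geom_sum_eq_sub_pow (k := k) p]
    exact pow_eq_zero_of_le (by omega) (nilpotent_cj ρ (by rw [inv_pow, D.pow_eq_one, inv_one]))
  obtain ⟨s, hs⟩ := cosetSum_sub_mem (cj ρ) hN hxN hp D.pow_eq_one (fun g => D.fix) hb
  have hcomm : ∀ g, Commute (cj ρ g) T := fun g => cosetSum_comm (cj ρ) hN g
  have hAT : Commute A T := (hcomm x).sub_left (Commute.one_left _)
  have hAπ : Commute A π := Commute.sub_left (hN x hxN) (Commute.one_left _)
  obtain ⟨hidem, t, ht⟩ := liftIdem_spec (n := 2 * c + 1) (by omega) hnil hπ hAT hAπ hs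
  set π' := liftIdem (2 * c + 1) T with hπ'
  have hc' : Commute A (A * t) := ht ▸ (commute_liftIdem hAT _).sub_right hAπ
  have hz : (π' - π) ^ (2 * c + 1) = 0 := by rw [ht]; exact pow_mul_eq_zero hnil hc'
  have hfix : ∀ (r : Module.End k Mat) (a : k) (f : Mat), r ^ (2 * c + 1) = 0 → a ≠ 0 → r f = a • f → f = 0 := by
    intro r a f hr ha hf
    have h1 : ∀ n : ℕ, (r ^ n) f = a ^ n • f := fun n => by
      induction n with
      | zero => simp
      | succ n ih => rw [pow_succ', Module.End.mul_apply, ih, map_smul, hf, smul_smul, pow_succ]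
    have h2 := h1 (2 * c + 1)
    rw [hr, LinearMap.zero_apply] at h2
    exact (smul_eq_zero.1 h2.symm).resolve_left (pow_ne_zero _ ha)
  refine ⟨π', hidem, fun g => (commute_liftIdem (hcomm g) _).eq,
    fun f h1 h2 => hfix _ 1 f hz one_ne_zero (by simp [h1, h2]),
    fun f h1 h2 => hfix _ (-1) f hz (neg_ne_zero.2 one_ne_zero) (by simp [h1, h2]), fun hsa => ?_⟩
  have hTs : SelfAdj T := fun f f' => by
    simp only [hT, cosetSum, LinearMap.sum_apply, Finset.sum_mul, Finset.mul_sum, Matrix.trace_sum]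
    refine Finset.sum_congr rfl fun q _ => ?_
    simp only [Module.End.mul_apply]
    rw [trace_cj_left, hsa, trace_cj_left, inv_inv]
  rw [hπ', liftIdem]
  exact selfAdj_one_sub (selfAdj_pow (selfAdj_one_sub (selfAdj_pow hTs _)) _)

end CfsgLib.Char.HalfDegree
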