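import Cfsg.Agent.Lib.Char.HalfDegree.Setup

/-!
# A single Jordan block

In an irreducible representation of dimension below `p / 2` of a group generated by the conjugates
of an element `x` of order `p`, `x` has a single Jordan block.
-/

set_option autoImplicit false
set_option linter.unusedSectionVars false

namespace CfsgLib.Char.HalfDegree

open Matrix Finset

variable {k : Type*} [Field k] {c p : ℕ} [Fact p.Prime] [CharP k p] {L : Type*} [Group L] [Finite L]
  {x : L}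

local notation "Mat" => Matrix (Fin (c + 1)) (Fin (c + 1)) k

/-- No invariant subspaces. -/
def Irred (ρ : L →* Mat) : Prop :=
  ∀ U : Submodule k (Fin (c + 1) → k), (∀ g, ∀ v ∈ U, ρ g *ᵥ v ∈ U) → U = ⊥ ∨ U = ⊤

theorem scalar_of_commute [IsAlgClosed k] {ρ : L →* Mat} (hirr : Irred ρ) {f : Mat}
    (hf : ∀ g, ρ g * f = f * ρ g) : ∃ a : k, f = a • 1 := by
  obtain ⟨a, ha⟩ := Module.End.exists_eigenvalue (Matrix.toLin' f)
  rcases hirr (Module.End.eigenspace (Matrix.toLin' f) a) (fun g v hv => by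
      rw [Module.End.mem_eigenspace_iff, toLin'_apply] at hv ⊢
      rw [mulVec_mulVec, ← hf, ← mulVec_mulVec, hv, mulVec_smul]) with h | h
  · exact absurd h ha
  · refine ⟨a, Matrix.ext_of_mulVec_single fun i => ?_⟩
    have : Pi.single i (1 : k) ∈ Module.End.eigenspace (Matrix.toLin' f) a := h ▸ Submodule.mem_top
    rw [Module.End.mem_eigenspace_iff, toLin'_apply] at this
    rw [this, smul_mulVec, one_mulVec]

/-- Commutes with `ρ x`. -/
def fixSp (ρ : L →* Mat) (x : L) : Submodule k Mat := LinearMap.ker (cj ρ x - 1)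

/-- The orthogonal of the fixed matrices. -/
def perpSp (ρ : L →* Mat) (x : L) : Submodule k Mat where
  carrier := {f | ∀ u ∈ fixSp ρ x, (u * f).trace = 0}
  zero_mem' := fun u _ => by simp
  add_mem' := fun ha hb u hu => by rw [mul_add, Matrix.trace_add, ha u hu, hb u hu, add_zero]
  smul_mem' := fun a f hf u hu => by rw [mul_smul_comm, Matrix.trace_smul, hf u hu, smul_zero]

theorem mem_fixSp {ρ : L →* Mat} {f : Mat} : f ∈ fixSp ρ x ↔ cj ρ x f = f := by
  simp [fixSp, sub_eq_zero]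

theorem cj_cj (ρ : L →* Mat) (g h : L) (f : Mat) : cj ρ g (cj ρ h f) = cj ρ (g * h) f := by
  rw [map_mul]; rfl

theorem cj_one (ρ : L →* Mat) (f : Mat) : cj ρ 1 f = f := by rw [map_one]; rfl

theorem fixSp_normalizer (ρ : L →* Mat) {n : L}
    (hn : n ∈ Subgroup.normalizer (Subgroup.zpowers x : Set L)) {f : Mat} (hf : f ∈ fixSp ρ x) :
    cj ρ n f ∈ fixSp ρ x := by
  rw [mem_fixSp] at hf ⊢
  have hmem : n⁻¹ * x * n ∈ Subgroup.zpowers x := by
    have := (Subgroup.mem_normalizer_iff.1 (inv_mem hn) x).1 (Subgroup.mem_zpowers x)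
    simpa using this
  let S : Subgroup L :=
    { carrier := {y | cj ρ y f = f}
      one_mem' := cj_one ρ f
      mul_mem' := fun {a b} ha hb => by
        show cj ρ (a * b) f = f
        rw [← cj_cj, hb, ha]
      inv_mem' := fun {a} ha => by
        show cj ρ a⁻¹ f = f
        conv_lhs => rw [← show cj ρ a f = f from ha]
        rw [cj_cj, inv_mul_cancel, cj_one] }
  have h1 : cj ρ (n⁻¹ * x * n) f = f := (Subgroup.zpowers_le.2 (show x ∈ S from hf)) hmem
  rw [cj_cj, show x * n = n * (n⁻¹ * x * n) by group, ← cj_cj, h1]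

theorem exists_pi (ρ : L →* Mat) (x : L) : ∃ π : Module.End k Mat, (∀ f, π f ∈ fixSp ρ x) ∧
    (∀ f ∈ perpSp ρ x, π f = 0) ∧ ∀ u ∈ fixSp ρ x, π u - u ∈ perpSp ρ x := by
  set q : fixSp ρ x →ₗ[k] (Mat ⧸ perpSp ρ x) := (perpSp ρ x).mkQ.comp (fixSp ρ x).subtype with hq
  obtain ⟨g, hg⟩ := LinearMap.exists_rightInverse_of_surjective q.rangeRestrict (LinearMap.range_rangeRestrict q)
  obtain ⟨G, hG⟩ := LinearMap.exists_extend g
  refine ⟨(fixSp ρ x).subtype.comp (G.comp (perpSp ρ x).mkQ), fun f => (G ((perpSp ρ x).mkQ f)).2,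
    fun f hf => ?_, fun u hu => ?_⟩
  · simp [(Submodule.Quotient.mk_eq_zero _).2 hf]
  · rw [← Submodule.Quotient.eq]
    have h1 : G (q ⟨u, hu⟩) = g ⟨q ⟨u, hu⟩, LinearMap.mem_range_self q _⟩ :=
      LinearMap.congr_fun hG ⟨q ⟨u, hu⟩, LinearMap.mem_range_self q _⟩
    have h2 := congrArg Subtype.val (LinearMap.congr_fun hg ⟨q ⟨u, hu⟩, LinearMap.mem_range_self q _⟩)
    change q (g _) = q ⟨u, hu⟩ at h2
    show q (G (q ⟨u, hu⟩)) = q ⟨u, hu⟩
    rw [h1]
    exact h2

theorem single_block [IsAlgClosed k] (D : LocData p x) (hd : 2 * c + 3 ≤ p) {ρ : L →* Mat}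
    (hirr : Irred ρ) (hgen : Subgroup.normalClosure {x} = ⊤) (hx : ρ x ≠ 1) :
    (ρ x - 1) ^ c ≠ 0 := by
  classical
  have hp : p.Prime := Fact.out
  intro h0
  have hc0 : c ≠ 0 := fun e => by
    subst e
    rw [pow_zero] at h0
    exact one_ne_zero h0
  obtain ⟨P, m, hm0, hmc, hPP, hPN, hPtr⟩ := exists_idem h0 hc0
  have hPx : Commute P (ρ x) := by
    have := hPN.add_right (Commute.one_right P)
    rwa [sub_add_cancel] at this
  have hfix : ∀ Q : Mat, Commute Q (ρ x) → Q ∈ fixSp ρ x := fun Q hQ => by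
    rw [mem_fixSp, cj_apply, ← hQ.eq, mul_assoc, ← map_mul, mul_inv_cancel, map_one, mul_one]
  have hP1 : P ∈ fixSp ρ x := hfix P hPx
  have hP2 : (1 - P) ∈ fixSp ρ x := hfix _ ((Commute.one_left _).sub_left hPx)
  set N := Subgroup.normalizer (Subgroup.zpowers x : Set L) with hNdef
  set K := (Subgroup.zpowers x).subgroupOf N with hK
  haveI : K.Normal := Subgroup.normal_in_normalizer
  haveI : Fintype (N ⧸ K) := Fintype.ofFinite _
  have hxN : x ∈ N := Subgroup.le_normalizer (Subgroup.mem_zpowers x)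
  have hperp : ∀ n ∈ N, ∀ f ∈ perpSp ρ x, cj ρ n f ∈ perpSp ρ x := fun n hn f hf u hu => by
    rw [trace_mul_comm, trace_cj_left, trace_mul_comm]
    exact hf _ (fixSp_normalizer ρ (inv_mem hn) hu)
  obtain ⟨π₀, hπ1, hπ2, hπ3⟩ := exists_pi ρ x
  have hAperp : ∀ f, cj ρ x f - f ∈ perpSp ρ x := fun f u hu => by
    rw [mul_sub, Matrix.trace_sub, sub_eq_zero]
    conv_lhs => rw [← mem_fixSp.1 hu]
    exact trace_cj ρ x u f
  have hxπ : cj ρ x * π₀ = π₀ ∧ π₀ * cj ρ x = π₀ := ⟨LinearMap.ext fun f => mem_fixSp.1 (hπ1 f),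
    LinearMap.ext fun f => by
      have := hπ2 _ (hAperp f)
      rwa [map_sub, sub_eq_zero] at this⟩
  have hKc : ∀ n ∈ K, cj ρ (n : L) * π₀ = π₀ * cj ρ (n : L) := by
    intro n hn
    let S : Subgroup L :=
      { carrier := {y | cj ρ y * π₀ = π₀ * cj ρ y}
        one_mem' := by simp
        mul_mem' := fun {a b} ha hb => by
          show cj ρ (a * b) * π₀ = π₀ * cj ρ (a * b)
          exact map_mul (cj ρ) a b ▸ (Commute.mul_left ha hb : Commute _ _)
        inv_mem' := fun {a} ha => by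
          show cj ρ a⁻¹ * π₀ = π₀ * cj ρ a⁻¹
          calc cj ρ a⁻¹ * π₀ = cj ρ a⁻¹ * (π₀ * cj ρ a) * cj ρ a⁻¹ := by
                rw [mul_assoc, mul_assoc π₀, ← map_mul, mul_inv_cancel, map_one, mul_one]
            _ = π₀ * cj ρ a⁻¹ := by
                rw [← ha, ← mul_assoc, ← map_mul, inv_mul_cancel, map_one, one_mul] }
    exact (Subgroup.zpowers_le.2 (show x ∈ S from hxπ.1.trans hxπ.2.symm)) hn
  have hm' : ((Nat.card (N ⧸ K) : k)) ≠ 0 := by
    rw [Ne, CharP.cast_eq_zero_iff k p]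
    intro h
    refine D.sq (dvd_trans ?_ (Subgroup.card_subgroup_dvd_card N))
    rw [Subgroup.card_eq_card_quotient_mul_card_subgroup K,
      Nat.card_congr (Subgroup.subgroupOfEquivOfLe Subgroup.le_normalizer).toEquiv, Nat.card_zpowers, D.order,
      pow_two]
    exact Nat.mul_dvd_mul_right h p
  set π₁ : Module.End k Mat := (Nat.card (N ⧸ K) : k)⁻¹ • cosetSum ((cj ρ).comp N.subtype) K π₀ with hπ₁
  have hterm : ∀ (q : N ⧸ K) (f : Mat), (cj ρ ((q.out : N) : L) * π₀ * cj ρ (((q.out : N)⁻¹ : N) : L)) f =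
      cj ρ ((q.out : N) : L) (π₀ (cj ρ ((q.out : N) : L)⁻¹ f)) := fun q f => rfl
  have h11 : ∀ f, π₁ f ∈ fixSp ρ x := fun f => by
    simp only [hπ₁, cosetSum, LinearMap.smul_apply, LinearMap.sum_apply]
    exact Submodule.smul_mem _ _ (sum_mem fun q _ => (hterm q f).symm ▸ fixSp_normalizer ρ q.out.2 (hπ1 _))
  have h12 : ∀ f ∈ perpSp ρ x, π₁ f = 0 := fun f hf => by
    simp only [hπ₁, cosetSum, LinearMap.smul_apply, LinearMap.sum_apply]
    rw [Finset.sum_eq_zero fun q _ => ?_, smul_zero]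
    exact (hterm q f).trans (by rw [hπ2 _ (hperp _ (inv_mem q.out.2) f hf), map_zero])
  have h13 : ∀ u ∈ fixSp ρ x, π₁ u - u ∈ perpSp ρ x := fun u hu => by
    have e : π₁ u - u = (Nat.card (N ⧸ K) : k)⁻¹ •
        ∑ q : N ⧸ K, ((cj ρ ((q.out : N) : L) * π₀ * cj ρ (((q.out : N)⁻¹ : N) : L)) u - u) := by
      rw [Finset.sum_sub_distrib, smul_sub, Finset.sum_const, Finset.card_univ, ← Nat.card_eq_fintype_card,
        ← Nat.cast_smul_eq_nsmul k, smul_smul, inv_mul_cancel₀ hm', one_smul]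
      simp only [hπ₁, cosetSum, LinearMap.smul_apply, LinearMap.sum_apply]
      rfl
    rw [e]
    refine Submodule.smul_mem _ _ (sum_mem fun q _ => ?_)
    rw [hterm]
    have h := hperp _ q.out.2 _ (hπ3 _ (fixSp_normalizer ρ (inv_mem q.out.2) hu))
    rwa [map_sub, cj_cj ρ _ _ u, mul_inv_cancel, cj_one] at h
  have hπ1N : ∀ n ∈ N, Commute (cj ρ n) π₁ := fun n hn =>
    (show Commute (cj ρ n) (cosetSum ((cj ρ).comp N.subtype) K π₀) from
      cosetSum_comm ((cj ρ).comp N.subtype) hKc ⟨n, hn⟩).smul_right _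
  have h3 : ∀ f, π₁ (π₁ (π₁ f)) = π₁ (π₁ f) := fun f => by
    have := h12 _ (h13 _ (h11 f))
    rwa [map_sub, sub_eq_zero] at this
  set π₂ := π₁ * π₁ with hπ₂
  have h2i : π₂ * π₂ = π₂ := LinearMap.ext fun f => by
    simp only [hπ₂, Module.End.mul_apply, h3]
  obtain ⟨π', hi', hg', hker1, hker2, -⟩ := exists_lift D hd ρ h2i
    fun n hn => ((hπ1N n hn).mul_right (hπ1N n hn)).eq
  have hzero : ∀ f, π₂ (cj ρ x f - f) = 0 := fun f => by
    rw [hπ₂, Module.End.mul_apply, h12 _ (hAperp f), map_zero]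
  have hWfix : ∀ w, π' w = w → ∀ g, cj ρ g w = w := by
    have hW : ∀ g w, π' w = w → π' (cj ρ g w) = cj ρ g w := fun g w hw => by
      conv_rhs => rw [← hw, ← Module.End.mul_apply, hg' g, Module.End.mul_apply]
    let S : Subgroup L :=
      { carrier := {g | ∀ w, π' w = w → cj ρ g w = w}
        one_mem' := fun w _ => cj_one ρ w
        mul_mem' := fun {a b} ha hb w hw => by
          show cj ρ (a * b) w = w
          rw [← cj_cj, hb w hw, ha w hw]
        inv_mem' := fun {a} ha w hw => by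
          show cj ρ a⁻¹ w = w
          conv_lhs => rw [← ha w hw]
          rw [cj_cj, inv_mul_cancel, cj_one] }
    haveI : S.Normal := ⟨fun y hy g w hw => by
      show cj ρ (g * y * g⁻¹) w = w
      rw [← cj_cj, ← cj_cj, hy _ (hW g⁻¹ w hw), cj_cj, mul_inv_cancel, cj_one]⟩
    have hxS : x ∈ S := fun w hw => by
      refine sub_eq_zero.1 (hker1 _ ?_ (hzero w))
      rw [map_sub, hW x w hw, hw]
    have hS : (⊤ : Subgroup L) ≤ S := hgen ▸ Subgroup.normalClosure_le_normal (Set.singleton_subset_iff.2 hxS)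
    exact fun w hw g => hS (Subgroup.mem_top g) w hw
  have hsc : ∀ f, ∃ a : k, π' f = a • 1 := fun f => scalar_of_commute hirr fun g => by
    have h := hWfix (π' f) (by rw [← Module.End.mul_apply, hi']) g
    rw [cj_apply] at h
    calc ρ g * π' f = ρ g * π' f * (ρ g⁻¹ * ρ g) := by rw [← map_mul, inv_mul_cancel, map_one, mul_one]
      _ = π' f * ρ g := by rw [← mul_assoc, h]
  set u₁ := π₂ P with hu₁
  set u₂ := π₂ (1 - P) with hu₂
  have hpair : ∀ u ∈ fixSp ρ x, ∀ v ∈ fixSp ρ x, (u * π₂ v).trace = (u * v).trace := fun u hu v hv => by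
    have e : π₂ v - v = (π₁ (π₁ v) - π₁ v) + (π₁ v - v) := by rw [hπ₂, Module.End.mul_apply]; abel
    have := (perpSp ρ x).add_mem (h13 _ (h11 v)) (h13 v hv) u hu
    rwa [← e, mul_sub, Matrix.trace_sub, sub_eq_zero] at this
  obtain ⟨a₁, ha₁⟩ := hsc u₁
  obtain ⟨a₂, ha₂⟩ := hsc u₂
  have hcomb : a₂ • u₁ - a₁ • u₂ = 0 := hker2 _ (by
    rw [map_sub, map_smul, map_smul, hu₁, hu₂, ← Module.End.mul_apply, ← Module.End.mul_apply, h2i])
    (by rw [map_sub, map_smul, map_smul, ha₁, ha₂, smul_comm, sub_self])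
  have t11 : (P * u₁).trace = (m : k) := by rw [hu₁, hpair _ hP1 _ hP1, hPP, hPtr]
  have t12 : (P * u₂).trace = 0 := by
    rw [hu₂, hpair _ hP1 _ hP2, mul_sub, mul_one, hPP, sub_self, Matrix.trace_zero]
  have t22 : ((1 - P) * u₂).trace = ((c + 1 - m : ℕ) : k) := by
    rw [hu₂, hpair _ hP2 _ hP2, show (1 - P) * (1 - P) = 1 - P by
      simp only [mul_sub, sub_mul, mul_one, one_mul, hPP, sub_self, sub_zero], Matrix.trace_sub, hPtr,
      Matrix.trace_one, Fintype.card_fin, Nat.cast_sub (by omega)]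
  have t21 : ((1 - P) * u₁).trace = 0 := by
    rw [hu₁, hpair _ hP2 _ hP1, sub_mul, one_mul, hPP, sub_self, Matrix.trace_zero]
  have hmk : (m : k) ≠ 0 := by
    rw [Ne, CharP.cast_eq_zero_iff k p]
    exact Nat.not_dvd_of_pos_of_lt hm0 (by omega)
  have hck : ((c + 1 - m : ℕ) : k) ≠ 0 := by
    rw [Ne, CharP.cast_eq_zero_iff k p]
    exact Nat.not_dvd_of_pos_of_lt (by omega) (by omega)
  have ea₂ : a₂ = 0 := by
    have h := congrArg (fun X => (P * X).trace) hcomb
    simp only [mul_sub, mul_smul_comm, Matrix.trace_sub, Matrix.trace_smul, t11, t12, mul_zero,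
      Matrix.trace_zero, smul_eq_mul, sub_zero] at h
    exact (mul_eq_zero.1 h).resolve_right hmk
  have e2 : u₂ = 0 := hker2 _ (by rw [hu₂, ← Module.End.mul_apply, h2i]) (by rw [ha₂, ea₂, zero_smul])
  rw [e2, mul_zero, Matrix.trace_zero] at t22
  exact hck t22.symm

end CfsgLib.Char.HalfDegree
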